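import Mathlib
import Cfsg.Prelude.Def_LocalEven
import Cfsg.Prelude.Def_CaseTheorems
import Cfsg.Prelude.Def_Local
import Cfsg.Agent.Lib.Basic.PCore
import Cfsg.Agent.Lib.Solvable.AxB
import Cfsg.Agent.Lib.Coprime.GenerationE
import Cfsg.Agent.Lib.PGroup.Critical
import Cfsg.Agent.Lib.PGroup.NormalRank
import Cfsg.Agent.S0121

set_option autoImplicit false
set_option linter.style.haveILetI false
set_option linter.unusedVariables false
set_option linter.unusedSectionVars false

/-!
# Klinger-Mason: basic local tools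

`Oc q x` is the `q`-core of the centralizer of `x`, viewed in the ambient group.
-/

namespace Cfsg.Agent.Lib.KM

open Subgroup Cfsg
open Cfsg.Agent.Lib.Basic.PCore
open scoped commutatorElement

variable {G : Type*} [Group G]

/-- `O_q(C(x))` as a subgroup of the ambient group. -/
def Oc (q : ℕ) (x : G) : Subgroup G :=
  (Cfsg.pCore q ↥(centralizer ({x} : Set G))).map (centralizer ({x} : Set G)).subtype

theorem comm_of_mem_centralizer {x g : G} (hg : g ∈ centralizer ({x} : Set G)) : Commute g x := by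
  rw [mem_centralizer_iff] at hg
  exact (hg x rfl).symm

theorem mem_centralizer_of_comm {x g : G} (hg : Commute g x) : g ∈ centralizer ({x} : Set G) := by
  rw [mem_centralizer_iff]
  rintro y rfl
  exact hg.symm

theorem Oc_le (q : ℕ) (x : G) : Oc q x ≤ centralizer ({x} : Set G) := by
  rintro _ ⟨y, -, rfl⟩
  exact y.2

theorem Oc_comm {q : ℕ} {x y : G} (hy : y ∈ Oc q x) : Commute y x :=
  comm_of_mem_centralizer (Oc_le q x hy)

theorem Oc_isP [Finite G] (q : ℕ) [Fact q.Prime] (x : G) : IsPGroup q (Oc q x) :=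
  (pCore_isPGroup (G := ↥(centralizer ({x} : Set G))) q).map _

theorem Oc_conj {q : ℕ} {x g y : G} (hg : Commute g x) (hy : y ∈ Oc q x) :
    g * y * g⁻¹ ∈ Oc q x := by
  obtain ⟨y', hy', rfl⟩ := hy
  let g' : ↥(centralizer ({x} : Set G)) := ⟨g, mem_centralizer_of_comm hg⟩
  refine ⟨g' * y' * g'⁻¹, ?_, rfl⟩
  exact (pCore_normal q _).conj_mem _ hy' g'

theorem le_Oc [Finite G] {q : ℕ} [Fact q.Prime] {x : G} {L : Subgroup G} (hL : IsPGroup q L)
    (hLC : L ≤ centralizer ({x} : Set G))
    (hLn : ∀ g : G, Commute g x → ∀ y ∈ L, g * y * g⁻¹ ∈ L) : L ≤ Oc q x := by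
  intro y hy
  have hn : (L.subgroupOf (centralizer ({x} : Set G))).Normal := by
    constructor
    intro n hn g
    rw [mem_subgroupOf] at hn ⊢
    exact hLn g (comm_of_mem_centralizer g.2) _ hn
  have hp : IsPGroup q (L.subgroupOf (centralizer ({x} : Set G))) := hL.comap_of_injective
    (Subgroup.subtype _) (Subgroup.subtype_injective _)
  have := le_pCore hn hp (show (⟨y, hLC hy⟩ : ↥(centralizer ({x} : Set G))) ∈ _ from by
    rw [mem_subgroupOf]; exact hy)
  exact ⟨_, this, rfl⟩

/-- A `q`-element normalizing a subgroup of order `q` generated by `x` centralizes `x`. -/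
theorem comm_of_ppow_of_conj_mem {q : ℕ} [Fact q.Prime] {x a : G} (hx : orderOf x = q) {n : ℕ}
    (ha : a ^ (q ^ n) = 1) (h : a * x * a⁻¹ ∈ zpowers x) : Commute a x := by
  classical
  have hfin : IsOfFinOrder x := by
    rw [← orderOf_pos_iff, hx]; exact (Fact.out : q.Prime).pos
  obtain ⟨k, hk⟩ := (hfin.mem_powers_iff_mem_zpowers).mpr h
  replace hk : x ^ k = a * x * a⁻¹ := hk
  have hstep : ∀ m : ℕ, a ^ m * x * (a ^ m)⁻¹ = x ^ (k ^ m) := by
    intro m
    induction m with
    | zero => simp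
    | succ m ih =>
      have : a ^ (m + 1) * x * (a ^ (m + 1))⁻¹ = a * (a ^ m * x * (a ^ m)⁻¹) * a⁻¹ := by
        rw [pow_succ']; group
      rw [this, ih, pow_succ, pow_mul]
      have h2 : a * x ^ (k ^ m) * a⁻¹ = (a * x * a⁻¹) ^ (k ^ m) := by
        rw [conj_pow]
      rw [h2, ← hk, ← pow_mul, ← pow_mul, mul_comm]
  have h1 := hstep (q ^ n)
  rw [ha] at h1
  simp only [one_mul, inv_one, mul_one] at h1
  have h2 : x ^ 1 = x ^ (k ^ (q ^ n)) := by simpa using h1
  have h3 := (pow_eq_pow_iff_modEq (x := x)).mp h2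
  rw [hx] at h3
  have h4 : ((k : ℕ) : ZMod q) ^ (q ^ n) = 1 := by
    have := (ZMod.natCast_eq_natCast_iff 1 (k ^ q ^ n) q).mpr h3
    push_cast at this
    exact this.symm
  rw [ZMod.pow_card_pow] at h4
  have h5 : k ≡ 1 [MOD q] := by
    have : ((k : ℕ) : ZMod q) = ((1 : ℕ) : ZMod q) := by simpa using h4
    exact (ZMod.natCast_eq_natCast_iff _ _ _).mp this
  have h6 : x ^ k = x ^ 1 := by
    rw [pow_eq_pow_iff_modEq, hx]; exact h5
  rw [pow_one] at h6
  rw [h6, eq_comm, mul_inv_eq_iff_eq_mul] at hk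
  exact hk

/-- Local characteristic at the level of centralizers of elements of order `q`. -/
def LocChar (q : ℕ) (G : Type*) [Group G] : Prop :=
  ∀ x : G, orderOf x = q → ∀ g : G, Commute g x → (∀ y ∈ Oc q x, Commute g y) → g ∈ Oc q x

theorem locChar_of [Finite G] {q : ℕ} [Fact q.Prime]
    (h : ∀ T : Subgroup G, IsPGroup q T → T ≠ ⊥ →
      centralizer (pCore q ↥(normalizer (T : Set G)) : Set ↥(normalizer (T : Set G))) ≤
        pCore q ↥(normalizer (T : Set G))) : LocChar q G := by
  intro x hx g hg hgc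
  have hqp : (Fact.out : q.Prime).one_lt = (Fact.out : q.Prime).one_lt := rfl
  set T : Subgroup G := zpowers x with hT
  have hTp : IsPGroup q T := by
    rw [hT]
    intro y
    refine ⟨1, ?_⟩
    obtain ⟨k, hk⟩ := y.2
    apply Subtype.ext
    simp only [pow_one, OneMemClass.coe_one, SubmonoidClass.coe_pow]
    rw [← hk, ← zpow_natCast, ← zpow_mul, mul_comm, zpow_mul, zpow_natCast, ← hx, pow_orderOf_eq_one,
      one_zpow]
  have hTne : T ≠ ⊥ := by
    intro hb
    have : x ∈ T := mem_zpowers x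
    rw [hb, mem_bot] at this
    rw [this, orderOf_one] at hx
    exact (Fact.out : q.Prime).one_lt.ne hx
  have hCN : centralizer ({x} : Set G) ≤ normalizer (T : Set G) := by
    intro c hc
    rw [mem_normalizer_iff]
    intro t
    have hc' := comm_of_mem_centralizer hc
    constructor
    · rintro ⟨k, rfl⟩
      have : c * x ^ k * c⁻¹ = x ^ k := by
        rw [((hc'.zpow_right k).eq)]; simp
      rw [this]; exact ⟨k, rfl⟩
    · intro ht
      obtain ⟨k, hk⟩ := ht
      have : c * x ^ k * c⁻¹ = x ^ k := by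
        rw [((hc'.zpow_right k).eq)]; simp
      have h2 : t = x ^ k := by
        have h3 : c * t * c⁻¹ = c * x ^ k * c⁻¹ := by
          rw [this]; exact hk.symm
        have h4 : c * t = c * x ^ k := mul_right_cancel h3
        exact mul_left_cancel h4
      rw [h2]; exact ⟨k, rfl⟩
  set N := normalizer (T : Set G) with hN
  let A : Subgroup G := (pCore q ↥N).map N.subtype
  have hAp : IsPGroup q A := (pCore_isPGroup (G := ↥N) q).map _
  have hAC : A ≤ centralizer ({x} : Set G) := by
    rintro _ ⟨a, ha, rfl⟩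
    apply mem_centralizer_of_comm
    obtain ⟨n, hn⟩ := hAp ⟨a, ⟨a, ha, rfl⟩⟩
    have hn' : (a : G) ^ (q ^ n) = 1 := by
      have := congrArg Subtype.val hn
      simpa using this
    apply comm_of_ppow_of_conj_mem hx hn'
    have := (mem_normalizer_iff.mp a.2 x).mp (mem_zpowers x)
    exact this
  have hAO : A ≤ Oc q x := by
    apply le_Oc hAp hAC
    rintro c hc _ ⟨a, ha, rfl⟩
    let c' : ↥N := ⟨c, hCN (mem_centralizer_of_comm hc)⟩
    exact ⟨c' * a * c'⁻¹, (pCore_normal q _).conj_mem _ ha c', rfl⟩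
  have hOA : Oc q x ≤ A := by
    have hOC := Oc_le q x
    have hnO : ∀ n ∈ N, ∀ y ∈ Oc q x, n * y * n⁻¹ ∈ Oc q x := by
      intro n hn y hy
      let L : Subgroup G := (Oc q x).map (MulAut.conj n).toMonoidHom
      have hLmem : ∀ w ∈ Oc q x, n * w * n⁻¹ ∈ L := fun w hw => ⟨w, hw, rfl⟩
      have hcommx : ∀ w ∈ Oc q x, Commute (n * w * n⁻¹) x := by
        intro w hw
        have hinv : n⁻¹ * x * n ∈ T := by
          have hn' : n⁻¹ ∈ N := inv_mem hn
          have := (mem_normalizer_iff.mp hn' x).mp (mem_zpowers x)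
          simpa using this
        obtain ⟨k, hk⟩ := hinv
        replace hk : x ^ k = n⁻¹ * x * n := hk
        have h1 : Commute w (x ^ k) := (Oc_comm hw).zpow_right k
        rw [hk] at h1
        have h2 : n * w * n⁻¹ * x = x * (n * w * n⁻¹) := by
          have h3 := h1.eq
          calc n * w * n⁻¹ * x = n * (w * (n⁻¹ * x * n)) * n⁻¹ := by group
            _ = n * ((n⁻¹ * x * n) * w) * n⁻¹ := by rw [h3]
            _ = x * (n * w * n⁻¹) := by group
        exact h2
      have hLle : L ≤ Oc q x := by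
        apply le_Oc
        · exact (Oc_isP q x).map _
        · rintro _ ⟨w, hw, rfl⟩
          exact mem_centralizer_of_comm (hcommx w hw)
        · rintro c hc _ ⟨w, hw, rfl⟩
          have hcinv : Commute (n⁻¹ * c * n) x := by
            have hT' : n * x * n⁻¹ ∈ T := (mem_normalizer_iff.mp hn x).mp (mem_zpowers x)
            obtain ⟨k, hk⟩ := hT'
            replace hk : x ^ k = n * x * n⁻¹ := hk
            have h1 : Commute c (x ^ k) := hc.zpow_right k
            rw [hk] at h1
            have h3 := h1.eq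
            show n⁻¹ * c * n * x = x * (n⁻¹ * c * n)
            calc n⁻¹ * c * n * x = n⁻¹ * (c * (n * x * n⁻¹)) * n := by group
              _ = n⁻¹ * ((n * x * n⁻¹) * c) * n := by rw [h3]
              _ = x * (n⁻¹ * c * n) := by group
          have := Oc_conj hcinv hw
          refine ⟨_, this, ?_⟩
          simp [MulAut.conj_apply]
          group
      exact hLle (hLmem y hy)
    intro y hy
    have hyN : y ∈ N := hCN (hOC hy)
    have hn : ((Oc q x).subgroupOf N).Normal := by
      constructor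
      intro w hw g
      rw [mem_subgroupOf] at hw ⊢
      exact hnO g g.2 _ hw
    have hp : IsPGroup q ((Oc q x).subgroupOf N) := (Oc_isP q x).comap_of_injective
      (Subgroup.subtype _) (Subgroup.subtype_injective _)
    have := le_pCore hn hp (show (⟨y, hyN⟩ : ↥N) ∈ _ from by rw [mem_subgroupOf]; exact hy)
    exact ⟨_, this, rfl⟩
  have hg' : (⟨g, hCN (mem_centralizer_of_comm hg)⟩ : ↥N) ∈ centralizer (pCore q ↥N : Set ↥N) := by
    rw [mem_centralizer_iff]
    intro a ha
    apply Subtype.ext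
    have := (hgc a (hAO ⟨a, ha, rfl⟩)).eq
    simpa using this.symm
  have := h T hTp hTne hg'
  exact hAO ⟨_, this, rfl⟩

/-- From the two defining hypotheses. -/
theorem locChar_of_local [Finite G] {p : ℕ} [Fact p.Prime] (h : IsOfLocalCharacteristic p G) :
    LocChar p G := locChar_of h.2

theorem locChar_two [Finite G] (h : IsCharacteristicTwoType G) : LocChar 2 G := by
  haveI : Fact (Nat.Prime 2) := ⟨Nat.prime_two⟩
  exact locChar_of h.2

/-! ### Elementwise trivia -/

theorem comm_iff_conj {g y : G} : Commute g y ↔ g * y * g⁻¹ = y := by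
  rw [mul_inv_eq_iff_eq_mul]; exact Iff.rfl

theorem self_mem_Oc [Finite G] {q : ℕ} [Fact q.Prime] {x : G} (hx : orderOf x = q) : x ∈ Oc q x := by
  have hp : IsPGroup q (zpowers x) := by
    intro y
    refine ⟨1, ?_⟩
    obtain ⟨k, hk⟩ := y.2
    apply Subtype.ext
    simp only [pow_one, OneMemClass.coe_one, SubmonoidClass.coe_pow]
    rw [← hk, ← zpow_natCast, ← zpow_mul, mul_comm, zpow_mul, zpow_natCast, ← hx, pow_orderOf_eq_one,
      one_zpow]
  have : zpowers x ≤ Oc q x := by
    apply le_Oc hp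
    · rw [zpowers_le]; exact mem_centralizer_of_comm (Commute.refl x)
    · rintro g hg _ ⟨k, rfl⟩
      refine ⟨k, ?_⟩
      have : g * x ^ k * g⁻¹ = x ^ k := by
        rw [comm_iff_conj.mp (hg.zpow_right k)]
      simp only [this]
  exact this (mem_zpowers x)

/-- An element of a `p`-group and of a `q`-group, `p ≠ q`, is trivial. -/
theorem eq_one_of_ppow_of_qpow {p q : ℕ} [hp : Fact p.Prime] [hq : Fact q.Prime] (hpq : p ≠ q) {x : G} {m n : ℕ}
    (h1 : x ^ (p ^ m) = 1) (h2 : x ^ (q ^ n) = 1) : x = 1 := by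
  have h3 : orderOf x ∣ p ^ m := orderOf_dvd_of_pow_eq_one h1
  have h4 : orderOf x ∣ q ^ n := orderOf_dvd_of_pow_eq_one h2
  have hc : Nat.Coprime (p ^ m) (q ^ n) :=
    Nat.Coprime.pow _ _ ((Nat.coprime_primes hp.out hq.out).mpr hpq)
  have := Nat.eq_one_of_dvd_coprimes hc h3 h4
  exact orderOf_eq_one_iff.mp this

theorem exists_pow_of_isP [Finite G] {q : ℕ} {L : Subgroup G} (hL : IsPGroup q L) {x : G} (hx : x ∈ L) :
    ∃ n : ℕ, x ^ (q ^ n) = 1 := by
  obtain ⟨n, hn⟩ := hL ⟨x, hx⟩
  refine ⟨n, ?_⟩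
  have := congrArg Subtype.val hn
  simpa using this

/-- **L1**: commuting involution and element of order `p`. -/
theorem L1 [Finite G] {p : ℕ} [Fact p.Prime] (hp2 : p ≠ 2) {v x a b : G} (hvx : Commute v x)
    (ha : a ∈ Oc p x) (hav : Commute a v) (hb : b ∈ Oc 2 v) (hbx : Commute b x) : Commute a b := by
  haveI : Fact (Nat.Prime 2) := ⟨Nat.prime_two⟩
  have h1 : a * b * a⁻¹ * b⁻¹ ∈ Oc 2 v := mul_mem (Oc_conj hav hb) (inv_mem hb)
  have h2 : a * b * a⁻¹ * b⁻¹ ∈ Oc p x := by
    have : a * b * a⁻¹ * b⁻¹ = a * (b * a⁻¹ * b⁻¹) := by group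
    rw [this]
    exact mul_mem ha (Oc_conj hbx (inv_mem ha))
  obtain ⟨m, hm⟩ := exists_pow_of_isP (Oc_isP p x) h2
  obtain ⟨n, hn⟩ := exists_pow_of_isP (Oc_isP 2 v) h1
  have := eq_one_of_ppow_of_qpow hp2 hm hn
  have h3 : a * b = b * a := by
    have h4 : a * b * a⁻¹ = b := by
      rwa [mul_inv_eq_one] at this
    rwa [mul_inv_eq_iff_eq_mul] at h4
  exact h3

/-- Elements of order prime to `q` in `C(x)` trivial on `O_q(C(x))` are trivial. -/
theorem eq_one_of_trivial_Oc [Finite G] {q : ℕ} [Fact q.Prime] (hL : LocChar q G) {x g : G} (hx : orderOf x = q)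
    (hg : Commute g x) (hcop : (orderOf g).Coprime q) (h : ∀ y ∈ Oc q x, Commute g y) : g = 1 := by
  have hm := hL x hx g hg h
  obtain ⟨n, hn⟩ := exists_pow_of_isP (Oc_isP q x) hm
  have h1 : orderOf g ∣ q ^ n := orderOf_dvd_of_pow_eq_one hn
  have h2 : orderOf g = 1 := by
    have h3 : Nat.Coprime (orderOf g) (q ^ n) := Nat.Coprime.pow_right n hcop
    exact Nat.Coprime.eq_one_of_dvd h3 h1
  exact orderOf_eq_one_iff.mp h2

end Cfsg.Agent.Lib.KM
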