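import Cfsg.Agent.Lib.KM.Good
import Cfsg.Agent.Lib.Coprime.Stability

set_option autoImplicit false
set_option linter.style.haveILetI false
set_option linter.unusedVariables false
set_option linter.unusedSectionVars false

/-!
# Klinger-Mason: the subgroup `D` and its consequences
-/

namespace Cfsg.Agent.Lib.KM

open Subgroup Cfsg
open Cfsg.Agent.Lib.Basic.PCore
open scoped commutatorElement

variable {G : Type*} [Group G]

/-- Central powers. -/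
theorem cz {g d : G} (hg : Commute g d) (k : ℤ) : g * d ^ k * g⁻¹ = d ^ k :=
  comm_iff_conj.mp (hg.zpow_right k)

theorem eq_one_of_sq_of_ppow {p : ℕ} [hp : Fact p.Prime] (hp2 : p ≠ 2) {x : G} {n : ℕ} (h1 : x ^ (p ^ n) = 1) (h2 : x ^ 2 = 1) :
    x = 1 := by
  haveI : Fact (Nat.Prime 2) := ⟨Nat.prime_two⟩
  exact eq_one_of_ppow_of_qpow (n := 1) hp2 h1 (by simpa using h2)

theorem eq_one_of_sq_of_pow {p : ℕ} [hp : Fact p.Prime] (hp2 : p ≠ 2) {x : G} (h1 : x ^ p = 1) (h2 : x ^ 2 = 1) :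
    x = 1 := eq_one_of_sq_of_ppow (n := 1) hp2 (by simpa using h1) h2

/-- Square root of an element of odd prime power order. -/
theorem exists_sqrt {p : ℕ} [hp : Fact p.Prime] (hp2 : p ≠ 2) {t : G} {n : ℕ} (ht : t ^ (p ^ n) = 1) :
    ∃ m : ℕ, (t ^ m) ^ 2 = t := by
  have hdvd : orderOf t ∣ p ^ n := orderOf_dvd_of_pow_eq_one ht
  have hodd : Odd (orderOf t) := by
    apply Odd.of_dvd_nat _ hdvd
    exact (hp.out.odd_of_ne_two hp2).pow
  obtain ⟨m, hm⟩ := hodd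
  refine ⟨m + 1, ?_⟩
  rw [← pow_mul]
  have : (m + 1) * 2 = orderOf t + 1 := by omega
  rw [this, pow_succ, pow_orderOf_eq_one, one_mul]

theorem mem_of_sq_mem {p : ℕ} [hp : Fact p.Prime] (hp2 : p ≠ 2) {y : G} {n : ℕ} {H : Subgroup G} (hy : y ^ (p ^ n) = 1)
    (h : y ^ 2 ∈ H) : y ∈ H := by
  have hdvd : orderOf y ∣ p ^ n := orderOf_dvd_of_pow_eq_one hy
  have hodd : Odd (orderOf y) := by
    apply Odd.of_dvd_nat _ hdvd
    exact (hp.out.odd_of_ne_two hp2).pow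
  obtain ⟨m, hm⟩ := hodd
  have h2 : (y ^ 2) ^ (m + 1) = y := by
    rw [← pow_mul]
    have : 2 * (m + 1) = orderOf y + 1 := by omega
    rw [this, pow_succ, pow_orderOf_eq_one, one_mul]
  rw [← h2]
  exact pow_mem h _

/-- A nontrivial power generates back in a group of prime order. -/
theorem mem_zpowers_of_zpow {p : ℕ} [hp : Fact p.Prime] {x y : G} (hx : x ^ p = 1) (hy : y ∈ zpowers x) (hy1 : y ≠ 1) :
    x ∈ zpowers y := by
  obtain ⟨k, rfl⟩ := hy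
  have hcop : IsCoprime k (p : ℤ) := by
    rw [isCoprime_comm]
    apply (Nat.prime_iff_prime_int.mp hp.out).coprime_iff_not_dvd.mpr
    intro hd
    obtain ⟨l, rfl⟩ := hd
    apply hy1
    show x ^ ((p : ℤ) * l) = 1
    rw [zpow_mul, zpow_natCast, hx, one_zpow]
  obtain ⟨a, b, hab⟩ := hcop
  refine ⟨a, ?_⟩
  show ((fun k : ℤ => x ^ k) k) ^ a = x
  show (x ^ k) ^ a = x
  rw [← zpow_mul]
  have h1 : k * a = 1 - b * p := by linarith
  rw [h1, zpow_sub, zpow_one, mul_comm b, zpow_mul, zpow_natCast, hx, one_zpow, inv_one, mul_one]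

theorem conj_mem_of_gens {S : Set G} {g : G} (h : ∀ s ∈ S, g * s * g⁻¹ ∈ closure S) :
    ∀ q ∈ closure S, g * q * g⁻¹ ∈ closure S := by
  intro q hq
  induction hq using closure_induction with
  | mem x hx => exact h x hx
  | one => simp
  | mul a b _ _ ha hb =>
    have : g * (a * b) * g⁻¹ = (g * a * g⁻¹) * (g * b * g⁻¹) := by group
    rw [this]
    exact mul_mem ha hb
  | inv a _ ha =>
    have : g * a⁻¹ * g⁻¹ = (g * a * g⁻¹)⁻¹ := by group
    rw [this]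
    exact inv_mem ha

/-- `D` is in place. -/
structure GPD (p r : ℕ) (u d : G) (X D : Subgroup G) : Prop extends GP p r u d X where
  hDP : D ≤ Oc p d
  hDexp : ∀ y ∈ D, y ^ p = 1
  hDinv : ∀ g : G, Commute g d → ∀ y ∈ D, g * y * g⁻¹ ∈ D
  hdD : d ∈ D
  hDfaith : ∀ g : G, Commute g d → (orderOf g).Coprime p → (∀ y ∈ D, Commute g y) → g = 1

section GPDsec

variable [Finite G] {p r : ℕ} [hp : Fact p.Prime] {u d : G} {X D : Subgroup G} (gd : GPD p r u d X D)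
include gd

theorem GPD.ui : u⁻¹ = u := by
  rw [inv_eq_iff_mul_eq_one, ← sq, gd.hu2]

theorem GPD.ne_one_of_two {g : G} (hg : orderOf g = 2) : (orderOf g).Coprime p := by
  rw [hg]
  exact (Nat.coprime_primes Nat.prime_two hp.out).mpr (Ne.symm gd.hp2)

theorem GPD.D_d {y : G} (hy : y ∈ D) : Commute y d := Oc_comm (gd.hDP hy)

theorem GPD.inv_u {y : G} (hy : y ∈ D) : ∃ k : ℤ, u * y * u⁻¹ = y⁻¹ * d ^ k :=
  inv_mod gd.hp2 gd.hd gd.hdD (fun y hy => gd.D_d hy) gd.hu2 gd.d_u.symm (gd.hDinv u gd.d_u.symm)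
    (fun y hy h => gd.claimA (gd.hDP hy) h.symm (gd.hDexp y hy)) y hy

theorem GPD.dz_pow (k : ℤ) : (d ^ k) ^ p = 1 := by
  rw [← zpow_natCast, ← zpow_mul, mul_comm, zpow_mul, zpow_natCast, gd.d_pow, one_zpow]

theorem GPD.dz_cancel {k : ℤ} (h : (d ^ k) ^ 2 = 1) : d ^ k = 1 :=
  eq_one_of_sq_of_pow gd.hp2 (gd.dz_pow k) h

/-- Commutators of `D` lie in `⟨d⟩`. -/
theorem GPD.comm_D {a b : G} (ha : a ∈ D) (hb : b ∈ D) : a * b * a⁻¹ * b⁻¹ ∈ zpowers d := by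
  obtain ⟨i, hi⟩ := gd.inv_u (inv_mem ha)
  obtain ⟨j, hj⟩ := gd.inv_u (inv_mem hb)
  obtain ⟨l, hl⟩ := gd.inv_u (mul_mem (inv_mem ha) (inv_mem hb))
  have h1 : u * (a⁻¹ * b⁻¹) * u⁻¹ = (u * a⁻¹ * u⁻¹) * (u * b⁻¹ * u⁻¹) := by group
  rw [h1, hi, hj] at hl
  simp only [inv_inv, mul_inv_rev] at hl
  -- `a d^i b d^j = b a d^l`
  have hbi : d ^ i * b = b * d ^ i := ((gd.D_d hb).zpow_right i).eq.symm
  have h2 : a * b * d ^ (i + j) = b * a * d ^ l := by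
    rw [zpow_add]
    calc a * b * (d ^ i * d ^ j) = a * (b * d ^ i) * d ^ j := by group
      _ = a * (d ^ i * b) * d ^ j := by rw [hbi]
      _ = a * d ^ i * (b * d ^ j) := by group
      _ = b * a * d ^ l := hl
  refine ⟨l - (i + j), ?_⟩
  show d ^ (l - (i + j)) = _
  have h3 : a * b = b * a * d ^ (l - (i + j)) := by
    rw [zpow_sub, ← mul_assoc, ← h2]
    group
  rw [h3]
  have h4 : a * d ^ (l - (i + j)) * a⁻¹ = d ^ (l - (i + j)) := cz (gd.D_d ha) _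
  have h5 : b * d ^ (l - (i + j)) * b⁻¹ = d ^ (l - (i + j)) := cz (gd.D_d hb) _
  calc d ^ (l - (i + j)) = b * d ^ (l - (i + j)) * b⁻¹ := h5.symm
    _ = b * (a * d ^ (l - (i + j)) * a⁻¹) * b⁻¹ := by rw [h4]
    _ = _ := by group

/-- The elements of `C(d)` acting trivially on `D/⟨d⟩`. -/
def GPD.N0 : Subgroup G where
  carrier := {g | Commute g d ∧ ∀ m ∈ D, g * m * g⁻¹ * m⁻¹ ∈ zpowers d}
  one_mem' := ⟨Commute.one_left d, fun m _ => by simp⟩
  mul_mem' := by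
    rintro g h ⟨hg1, hg2⟩ ⟨hh1, hh2⟩
    refine ⟨hg1.mul_left hh1, fun m hm => ?_⟩
    obtain ⟨k, hk⟩ := hh2 m hm
    replace hk : d ^ k = h * m * h⁻¹ * m⁻¹ := hk
    have h1 : g * h * m * (g * h)⁻¹ * m⁻¹ =
        (g * (h * m * h⁻¹ * m⁻¹) * g⁻¹) * (g * m * g⁻¹ * m⁻¹) := by group
    rw [h1, ← hk, cz hg1]
    exact mul_mem ⟨k, rfl⟩ (hg2 m hm)
  inv_mem' := by
    rintro g ⟨hg1, hg2⟩
    refine ⟨hg1.inv_left, fun m hm => ?_⟩
    have hm' : g⁻¹ * m * g⁻¹⁻¹ ∈ D := gd.hDinv _ hg1.inv_left m hm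
    obtain ⟨k, hk⟩ := hg2 _ hm'
    replace hk : d ^ k = g * (g⁻¹ * m * g⁻¹⁻¹) * g⁻¹ * (g⁻¹ * m * g⁻¹⁻¹)⁻¹ := hk
    refine ⟨-k, ?_⟩
    show d ^ (-k) = _
    rw [zpow_neg, hk]
    group

theorem GPD.mem_N0 {g : G} : g ∈ gd.N0 ↔ Commute g d ∧ ∀ m ∈ D, g * m * g⁻¹ * m⁻¹ ∈ zpowers d := Iff.rfl

theorem GPD.N0_isP : IsPGroup p gd.N0 := by
  apply Cfsg.Agent.Lib.Coprime.Stability.isPGroup_of_forall_coprime hp.out
  rintro g ⟨hg1, hg2⟩ hcop
  apply gd.hDfaith g hg1 hcop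
  intro m hm
  obtain ⟨k, hk⟩ := hg2 m hm
  replace hk : d ^ k = g * m * g⁻¹ * m⁻¹ := hk
  have hgm : g * m * g⁻¹ = d ^ k * m := by rw [hk]; group
  have hpow : ∀ n : ℕ, g ^ n * m * (g ^ n)⁻¹ = (d ^ k) ^ n * m := by
    intro n
    induction n with
    | zero => simp
    | succ n ih =>
      have h1 : g ^ (n + 1) * m * (g ^ (n + 1))⁻¹ = g * (g ^ n * m * (g ^ n)⁻¹) * g⁻¹ := by
        rw [pow_succ']; group
      rw [h1, ih]
      have h2 : g * ((d ^ k) ^ n * m) * g⁻¹ = (g * (d ^ k) ^ n * g⁻¹) * (g * m * g⁻¹) := by group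
      have h3 : g * (d ^ k) ^ n * g⁻¹ = (d ^ k) ^ n := by
        rw [← conj_pow, cz hg1]
      rw [h2, h3, hgm, pow_succ, mul_assoc]
  have h4 := hpow (orderOf g)
  rw [pow_orderOf_eq_one] at h4
  simp only [one_mul, inv_one, mul_one] at h4
  have h5 : (d ^ k) ^ orderOf g = 1 := by
    have : (1 : G) * m = (d ^ k) ^ orderOf g * m := by rw [one_mul]; exact h4
    exact (mul_right_cancel this).symm
  have h6 : orderOf (d ^ k) ∣ orderOf g := orderOf_dvd_of_pow_eq_one h5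
  have h7 : orderOf (d ^ k) ∣ p := orderOf_dvd_of_pow_eq_one (gd.dz_pow k)
  have h8 : orderOf (d ^ k) = 1 := by
    have h9 : Nat.Coprime (orderOf g) p := hcop
    exact Nat.eq_one_of_dvd_coprimes h9 h6 h7
  have h10 : d ^ k = 1 := orderOf_eq_one_iff.mp h8
  rw [h10, one_mul] at hgm
  exact comm_iff_conj.mpr hgm

theorem GPD.N0_le : gd.N0 ≤ Oc p d := by
  apply le_Oc gd.N0_isP
  · rintro g ⟨hg1, -⟩
    exact mem_centralizer_of_comm hg1
  · rintro c hc g ⟨hg1, hg2⟩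
    refine ⟨(hc.mul_left hg1).mul_left hc.inv_left, fun m hm => ?_⟩
    have hm' : c⁻¹ * m * c⁻¹⁻¹ ∈ D := gd.hDinv _ hc.inv_left m hm
    obtain ⟨k, hk⟩ := hg2 _ hm'
    replace hk : d ^ k = g * (c⁻¹ * m * c⁻¹⁻¹) * g⁻¹ * (c⁻¹ * m * c⁻¹⁻¹)⁻¹ := hk
    refine ⟨k, ?_⟩
    show d ^ k = _
    have := cz hc k
    rw [← this, hk]
    group

/-- `K = P · C_K(u)`. -/
theorem GPD.conj_decomp {g : G} (hg : Commute g d) :
    ∃ n ∈ Oc p d, ∃ c : G, Commute c d ∧ Commute c u ∧ g = n * c := by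
  have hui := gd.ui
  have hu2 := gd.hu2
  have huu : u * u = 1 := by rw [← sq, hu2]
  set t : G := g * u * g⁻¹ * u with ht
  have hud := gd.d_u.symm
  have htd : Commute t d := ((((hg.mul_left hud).mul_left hg.inv_left)).mul_left hud)
  have htN : t ∈ gd.N0 := by
    refine ⟨?_, fun m hm => ?_⟩
    · have := (hg.mul_left hud).mul_left hg.inv_left
      exact htd
    · obtain ⟨i, hi⟩ := gd.inv_u hm
      have hm₀ : g⁻¹ * m * g⁻¹⁻¹ ∈ D := gd.hDinv _ hg.inv_left m hm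
      obtain ⟨l, hl⟩ := gd.inv_u hm₀
      have h1 : (g * u * g⁻¹) * m * (g * u * g⁻¹)⁻¹ = m⁻¹ * d ^ l := by
        have h2 : (g * u * g⁻¹) * m * (g * u * g⁻¹)⁻¹ = g * (u * (g⁻¹ * m * g⁻¹⁻¹) * u⁻¹) * g⁻¹ := by group
        rw [h2, hl]
        have h3 : g * ((g⁻¹ * m * g⁻¹⁻¹)⁻¹ * d ^ l) * g⁻¹ = m⁻¹ * (g * d ^ l * g⁻¹) := by group
        rw [h3, cz hg]
      have h4 : t * m * t⁻¹ = (g * u * g⁻¹) * (u * m * u⁻¹) * (g * u * g⁻¹)⁻¹ := by
        rw [ht]; group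
      have h5 : (g * u * g⁻¹) * (m⁻¹ * d ^ i) * (g * u * g⁻¹)⁻¹ =
          ((g * u * g⁻¹) * m * (g * u * g⁻¹)⁻¹)⁻¹ * ((g * u * g⁻¹) * d ^ i * (g * u * g⁻¹)⁻¹) := by group
      have hgu : Commute (g * u * g⁻¹) d := (hg.mul_left hud).mul_left hg.inv_left
      rw [h4, hi, h5, h1, cz hgu]
      refine ⟨i - l, ?_⟩
      show d ^ (i - l) = _
      have h6 : m * d ^ i * m⁻¹ = d ^ i := cz (gd.D_d hm) _
      have h7 : (m⁻¹ * d ^ l)⁻¹ * d ^ i * m⁻¹ = (d ^ l)⁻¹ * (m * d ^ i * m⁻¹) := by group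
      rw [h7, h6, sub_eq_neg_add, zpow_add, zpow_neg]
  have htP : t ∈ Oc p d := gd.N0_le htN
  obtain ⟨n₀, hn₀⟩ := exists_pow_of_isP (Oc_isP p d) htP
  obtain ⟨m, hm⟩ := exists_sqrt gd.hp2 hn₀
  have hti : u * t * u⁻¹ = t⁻¹ := by
    rw [ht, hui]
    have : (g * u * g⁻¹ * u)⁻¹ = u⁻¹ * g * u⁻¹ * g⁻¹ := by group
    rw [this, hui]
    calc u * (g * u * g⁻¹ * u) * u = u * g * u * g⁻¹ * (u * u) := by group
      _ = u * g * u * g⁻¹ := by rw [huu, mul_one]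
  set n := t ^ m with hn
  have hnP : n ∈ Oc p d := pow_mem htP m
  have hni : u * n * u⁻¹ = n⁻¹ := by
    rw [hn, ← conj_pow, hti, inv_pow]
  have hn2 : n * n = t := by rw [← sq]; exact hm
  refine ⟨n, hnP, n⁻¹ * g, ?_, ?_, by group⟩
  · exact (Oc_comm hnP).inv_left.mul_left hg
  · have hun : u * n = n⁻¹ * u := by
      rw [← hni]; group
    have h1 : (n⁻¹ * g) * u * (n⁻¹ * g)⁻¹ = u := by
      have h2 : (n⁻¹ * g) * u * (n⁻¹ * g)⁻¹ = n⁻¹ * (g * u * g⁻¹) * n := by group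
      have h3 : g * u * g⁻¹ = t * u := by
        rw [ht, mul_assoc (g * u * g⁻¹), huu, mul_one]
      rw [h2, h3, ← hn2]
      calc n⁻¹ * (n * n * u) * n = n * (u * n) := by group
        _ = n * (n⁻¹ * u) := by rw [hun]
        _ = u := by group
    exact comm_iff_conj.mpr h1

/-- **(N′)** A `p`-element of `C(d)` inverted by an element of `T` lies in `P`. -/
theorem GPD.mem_P_of_inv {h y : G} (hh : h ∈ TT u d) (hyd : Commute y d) {k : ℕ} (hyk : y ^ (p ^ k) = 1)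
    (hi : h * y * h⁻¹ = y⁻¹) : y ∈ Oc p d := by
  haveI : Fact (Nat.Prime 2) := ⟨Nat.prime_two⟩
  obtain ⟨n, hn, c, hcd, hcu, rfl⟩ := gd.conj_decomp hyd
  obtain ⟨hh1, hh2⟩ := mem_TT.mp hh
  set y := n * c with hy
  set h' := c * h * c⁻¹ with hh'
  have hh'1 : h' ∈ Oc 2 u := Oc_conj hcu hh1
  have hh'd : Commute h' d := (hcd.mul_left hh2).mul_left hcd.inv_left
  set π := n * h' * n⁻¹ * h'⁻¹ with hπ
  have hπP : π ∈ Oc p d := by
    have : π = n * (h' * n⁻¹ * h'⁻¹) := by rw [hπ]; group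
    rw [this]
    exact mul_mem hn (Oc_conj hh'd (inv_mem hn))
  set τ := h' * h⁻¹ with hτ
  have hτT : τ ∈ Oc 2 u := mul_mem hh'1 (inv_mem hh1)
  have hτd : Commute τ d := hh'd.mul_left hh2.inv_left
  have hsq : y ^ 2 = π * τ := by
    have h1 : y ^ 2 = y * (h * y⁻¹ * h⁻¹) := by
      have : h * y⁻¹ * h⁻¹ = y := by
        have h2 : h * y⁻¹ * h⁻¹ = (h * y * h⁻¹)⁻¹ := by group
        rw [h2, hi, inv_inv]
      rw [this, sq]
    rw [h1, hπ, hτ, hh', hy]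
    group
  -- `τ = 1`
  have hpowτ : ∀ j : ℕ, ∃ π' ∈ Oc p d, (π * τ) ^ j = π' * τ ^ j := by
    intro j
    induction j with
    | zero => exact ⟨1, one_mem _, by simp⟩
    | succ j ih =>
      obtain ⟨π', hπ', he⟩ := ih
      refine ⟨π' * (τ ^ j * π * (τ ^ j)⁻¹), mul_mem hπ' (Oc_conj (hτd.pow_left j) hπP), ?_⟩
      rw [pow_succ, he, pow_succ]
      group
  have hy2k : (π * τ) ^ (p ^ k) = 1 := by
    rw [← hsq, ← pow_mul, mul_comm, pow_mul, hyk, one_pow]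
  obtain ⟨π', hπ', he⟩ := hpowτ (p ^ k)
  rw [hy2k] at he
  have hτpP : τ ^ (p ^ k) ∈ Oc p d := by
    have : τ ^ (p ^ k) = π'⁻¹ := by
      rw [eq_inv_iff_mul_eq_one, ← mul_one (τ ^ p ^ k * π')]
      have h3 : π' * τ ^ p ^ k = 1 := he.symm
      have h4 : τ ^ p ^ k * π' = 1 := by
        have := (mul_eq_one_iff_eq_inv.mp h3)
        rw [this]; simp
      rw [h4, mul_one]
    rw [this]
    exact inv_mem hπ'
  obtain ⟨a, ha⟩ := exists_pow_of_isP (Oc_isP 2 u) hτT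
  have h5 : (τ ^ (p ^ k)) ^ (2 ^ a) = 1 := by
    rw [← pow_mul, mul_comm, pow_mul, ha, one_pow]
  obtain ⟨b, hb⟩ := exists_pow_of_isP (Oc_isP p d) hτpP
  have h6 : τ ^ (p ^ k) = 1 := eq_one_of_ppow_of_qpow gd.hp2 hb h5
  have h7 : τ = 1 := eq_one_of_ppow_of_qpow gd.hp2 h6 ha
  rw [h7, mul_one] at hsq
  exact mem_of_sq_mem gd.hp2 hyk (hsq ▸ hπP)

/-- **(d)** -/
theorem GPD.mem_N0_of_inv {y : G} (hy : y ∈ Oc p d) {k : ℕ} (hyk : y ^ (p ^ k) = 1) (hi : u * y * u⁻¹ = y⁻¹) :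
    y ∈ gd.N0 := by
  have hyd := Oc_comm hy
  apply mem_of_sq_mem gd.hp2 hyk
  refine ⟨by rw [sq]; exact hyd.mul_left hyd, fun m hm => ?_⟩
  have hm₁ : y * m * y⁻¹ ∈ D := gd.hDinv y hyd m hm
  have hm₂ : y⁻¹ * m * y⁻¹⁻¹ ∈ D := gd.hDinv _ hyd.inv_left m hm
  obtain ⟨i, hii⟩ := gd.inv_u hm
  obtain ⟨j, hj⟩ := gd.inv_u hm₁
  have hu1 : u * (y * m * y⁻¹) * u⁻¹ = y⁻¹ * (m⁻¹ * d ^ i) * y := by
    have h1 : u * (y * m * y⁻¹) * u⁻¹ = (u * y * u⁻¹) * (u * m * u⁻¹) * (u * y * u⁻¹)⁻¹ := by group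
    rw [h1, hi, hii, inv_inv]
  have h2 : (y * m * y⁻¹)⁻¹ * d ^ j = y⁻¹ * m⁻¹ * y * d ^ i := by
    rw [← hj, hu1]
    have h3 : y⁻¹ * (m⁻¹ * d ^ i) * y = y⁻¹ * m⁻¹ * (d ^ i * y) := by group
    have h4 : d ^ i * y = y * d ^ i := ((hyd.zpow_right i).eq).symm
    rw [h3, h4]
    group
  -- so `y m y⁻¹ = d^(j-i) y⁻¹ m y`
  have h5 : y * m * y⁻¹ = d ^ (j - i) * (y⁻¹ * m * y) := by
    have h6 : (y * m * y⁻¹)⁻¹ = y⁻¹ * m⁻¹ * y * (d ^ i * (d ^ j)⁻¹) := by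
      rw [← mul_assoc, ← h2]; group
    have h8 := congrArg (·⁻¹) h6
    simp only [inv_inv, mul_inv_rev] at h8
    rw [h8, zpow_sub]
    group
  refine ⟨j - i, ?_⟩
  show d ^ (j - i) = _
  have h10 : y ^ 2 * m * (y ^ 2)⁻¹ = d ^ (j - i) * m := by
    have h11 : y ^ 2 * m * (y ^ 2)⁻¹ = y * (y * m * y⁻¹) * y⁻¹ := by
      rw [sq]; group
    rw [h11, h5]
    have h12 : y * (d ^ (j - i) * (y⁻¹ * m * y)) * y⁻¹ = (y * d ^ (j - i) * y⁻¹) * m := by group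
    rw [h12, cz hyd]
  rw [h10]
  group

/-- Elements of `D` inverted by an element of `C(d) ∩ C(u)` are inverted by `u`. -/
theorem GPD.inv_u_of_inv_D {h y : G} (hy : y ∈ D) (hhd : Commute h d) (hhu : Commute h u) (hi : h * y * h⁻¹ = y⁻¹) :
    u * y * u⁻¹ = y⁻¹ := by
  obtain ⟨k, hk⟩ := gd.inv_u hy
  have h1 : h * (u * y * u⁻¹) * h⁻¹ = u * (h * y * h⁻¹) * u⁻¹ := by
    have h2 : h * u = u * h := hhu.eq
    have h3 : u⁻¹ * h⁻¹ = h⁻¹ * u⁻¹ := by
      rw [← mul_inv_rev, ← mul_inv_rev, h2]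
    calc h * (u * y * u⁻¹) * h⁻¹ = (h * u) * y * (u⁻¹ * h⁻¹) := by group
      _ = (u * h) * y * (h⁻¹ * u⁻¹) := by rw [h2, h3]
      _ = _ := by group
  rw [hi, hk] at h1
  have h4 : h * (y⁻¹ * d ^ k) * h⁻¹ = (h * y * h⁻¹)⁻¹ * (h * d ^ k * h⁻¹) := by group
  have h5 : u * y⁻¹ * u⁻¹ = (u * y * u⁻¹)⁻¹ := by group
  rw [h4, hi, cz hhd, h5, hk, inv_inv] at h1
  -- `y d^k = d^(-k) y`
  have hyk : y * d ^ k = d ^ k * y := ((gd.D_d hy).zpow_right k).eq
  have h6 : (d ^ k) ^ 2 = 1 := by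
    have h7 : y * d ^ k = (y⁻¹ * d ^ k)⁻¹ := h1
    rw [mul_inv_rev, inv_inv] at h7
    rw [hyk] at h7
    have h8 : d ^ k = (d ^ k)⁻¹ := mul_right_cancel h7
    rw [sq]
    nth_rewrite 1 [h8]
    group
  rw [hk, gd.dz_cancel h6, mul_one]

/-- Maximality: no further element commutes. -/
theorem GPD.no_ext {v : G} (hv : orderOf v = 2) {A : Subgroup G} (hA : IsElementaryAbelian p A)
    (hAv : ∀ a ∈ A, Commute a v) (hAc : Nat.card A = p ^ r) {y : G} (hy : ∀ a ∈ A, Commute a y)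
    (hyv : Commute y v) (hyp : y ^ p = 1) : y ∈ A := by
  by_contra hyA
  have hE := isEA_sup hA hy hyp
  have hcard := card_sup_zpowers' hy hyp hyA
  have hcv : ∀ a ∈ (A ⊔ zpowers y : Subgroup G), Commute a v := by
    intro a ha
    obtain ⟨b, hb, k, rfl⟩ := (mem_sup_zpowers_iff hy).mp ha
    exact (hAv b hb).mul_left (hyv.zpow_left k)
  have := gd.hmax v hv _ hE hcv
  rw [hcard, hAc] at this
  have h1 := hp.out.one_lt
  have h2 : 0 < p ^ r := pow_pos hp.out.pos r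
  nlinarith

/-- **(★★)** -/
theorem GPD.inv_u_of_inv_T {h y : G} (hh : h ∈ TT u d) (hy : y ∈ Oc p d) (hyo : orderOf y = p)
    (hi : h * y * h⁻¹ = y⁻¹) : u * y * u⁻¹ = y⁻¹ := by
  classical
  haveI : Fact (Nat.Prime 2) := ⟨Nat.prime_two⟩
  obtain ⟨hh1, hh2⟩ := mem_TT.mp hh
  have hhu : Commute h u := Oc_comm hh1
  have hui := gd.ui
  have huu : u * u = 1 := by rw [← sq, gd.hu2]
  have hud := gd.d_u.symm
  set y' := u * y * u⁻¹ with hy'
  have hy'P : y' ∈ Oc p d := Oc_conj hud hy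
  have hyy' : u * y' * u⁻¹ = y := by
    rw [hy', hui]
    calc u * (u * y * u) * u = (u * u) * y * (u * u) := by group
      _ = y := by rw [huu]; group
  have hhy' : h * y' * h⁻¹ = y'⁻¹ := by
    have h1 : h * (u * y * u⁻¹) * h⁻¹ = u * (h * y * h⁻¹) * u⁻¹ := by
      have h2 : h * u = u * h := hhu.eq
      have h3 : u⁻¹ * h⁻¹ = h⁻¹ * u⁻¹ := by
        rw [← mul_inv_rev, ← mul_inv_rev, h2]
      calc h * (u * y * u⁻¹) * h⁻¹ = (h * u) * y * (u⁻¹ * h⁻¹) := by group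
        _ = (u * h) * y * (h⁻¹ * u⁻¹) := by rw [h2, h3]
        _ = _ := by group
    rw [hy', h1, hi]
    group
  set Q : Subgroup G := closure {y, y'} with hQ
  have hyQ : y ∈ Q := subset_closure (by simp)
  have hy'Q : y' ∈ Q := subset_closure (by simp)
  have hQP : Q ≤ Oc p d := by
    rw [hQ, closure_le]
    rintro s (rfl | rfl)
    · exact hy
    · exact hy'P
  have hQp : IsPGroup p Q := (Oc_isP p d).to_le hQP
  have huQ : ∀ q ∈ Q, u * q * u⁻¹ ∈ Q := by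
    apply conj_mem_of_gens
    rintro s (rfl | rfl)
    · exact hy'Q
    · rw [hyy']; exact hyQ
  have hhQ : ∀ q ∈ Q, h * q * h⁻¹ ∈ Q := by
    apply conj_mem_of_gens
    rintro s (rfl | rfl)
    · rw [hi]; exact inv_mem hyQ
    · rw [hhy']; exact inv_mem hy'Q
  set N : Subgroup G := ⁅Q, Q⁆ with hN
  have hNQ : N ≤ Q := by
    rw [hN, commutator_le]
    intro a ha b hb
    rw [commutatorElement_def]
    exact mul_mem (mul_mem (mul_mem ha hb) (inv_mem ha)) (inv_mem hb)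
  have hcommN : ∀ a ∈ Q, ∀ b ∈ Q, a * b * a⁻¹ * b⁻¹ ∈ N := by
    intro a ha b hb
    have := commutator_mem_commutator ha hb
    rwa [commutatorElement_def] at this
  have hNn : ∀ q ∈ Q, ∀ n ∈ N, q * n * q⁻¹ ∈ N := by
    intro q hq n hn
    have h1 := hcommN q hq n (hNQ hn)
    have : q * n * q⁻¹ = (q * n * q⁻¹ * n⁻¹) * n := by group
    rw [this]
    exact mul_mem h1 hn
  have hNg : ∀ g : G, (∀ q ∈ Q, g * q * g⁻¹ ∈ Q) → ∀ n ∈ N, g * n * g⁻¹ ∈ N := by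
    intro g hg n hn
    have hle : N.map (MulAut.conj g).toMonoidHom ≤ N := by
      rw [hN, Subgroup.map_commutator]
      apply commutator_mono <;>
      · rintro _ ⟨q, hq, rfl⟩
        exact hg q hq
    exact hle ⟨n, hn, rfl⟩
  -- `h` inverts `Q` modulo `N`
  have hb : ∀ q ∈ Q, h * q * h⁻¹ * q ∈ N := by
    intro q hq
    induction hq using closure_induction with
    | mem x hx =>
      rcases hx with rfl | rfl
      · rw [hi]; simp
      · rw [hhy']; simp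
    | one => simp
    | mul a b ha hb iha ihb =>
      have h1 : h * (a * b) * h⁻¹ * (a * b) =
          (h * a * h⁻¹ * a) * (a⁻¹ * (h * b * h⁻¹) * a⁻¹⁻¹ * (h * b * h⁻¹)⁻¹) * (h * b * h⁻¹ * b) := by group
      rw [h1]
      exact mul_mem (mul_mem iha (hcommN _ (inv_mem ha) _ (hhQ b hb))) ihb
    | inv a ha iha =>
      have h1 : h * a⁻¹ * h⁻¹ * a⁻¹ = (a * (h * a * h⁻¹ * a) * a⁻¹)⁻¹ := by group
      rw [h1]
      exact inv_mem (hNn a ha _ iha)
  -- the fixed point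
  set w := y * y' with hw
  have hwQ : w ∈ Q := mul_mem hyQ hy'Q
  have huw : u * w * u⁻¹ = y' * y := by
    have : u * (y * y') * u⁻¹ = (u * y * u⁻¹) * (u * y' * u⁻¹) := by group
    rw [hw, this, hyy']
  have hzu : ∀ a ∈ zpowers u, a = 1 ∨ a = u := by
    rintro _ ⟨k, rfl⟩
    exact zpow_invol gd.hu2 k
  have hAK : zpowers u ≤ normalizer (Q : Set G) := by
    apply le_normalizer_of
    intro a ha q hq
    rcases hzu a ha with h | h <;> rw [h]
    · simpa using hq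
    · exact huQ q hq
  have hAN : zpowers u ≤ normalizer (N : Set G) := by
    apply le_normalizer_of
    intro a ha q hq
    rcases hzu a ha with h | h <;> rw [h]
    · simpa using hq
    · exact hNg u huQ q hq
  have hcop : (Nat.card (zpowers u)).Coprime (Nat.card Q) := by
    rw [Nat.card_zpowers, gd.hu]
    obtain ⟨n, hn⟩ := IsPGroup.iff_card.mp hQp
    rw [hn]
    exact Nat.Coprime.pow_right n ((Nat.coprime_primes Nat.prime_two hp.out).mpr (Ne.symm gd.hp2))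
  have hw1 : ∀ a ∈ zpowers u, w⁻¹ * (a * w * a⁻¹) ∈ N := by
    intro a ha
    rcases hzu a ha with h | h <;> rw [h]
    · simp
    · rw [huw]
      have : w⁻¹ * (y' * y) = y'⁻¹ * y⁻¹ * y'⁻¹⁻¹ * y⁻¹⁻¹ := by rw [hw]; group
      rw [this]
      exact hcommN _ (inv_mem hy'Q) _ (inv_mem hyQ)
  obtain ⟨c, ⟨hcQ, hcu⟩, hwc⟩ := Cfsg.Agent.Lib.Coprime.Coset.exists_centralizer_mem_coset hAK hcop
    (Or.inl (by
      haveI : IsMulCommutative (zpowers u) := inferInstance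
      exact Group.isSolvable_of_comm (fun a b => by
        exact IsMulCommutative.is_comm.comm a b))) hNQ hAN w hwQ hw1
  have hcuc : Commute c u := by
    have := mem_centralizer_iff.mp hcu u (mem_zpowers u)
    exact this.symm
  have hch : Commute c h := L1 gd.hp2 hud (hQP hcQ) hcuc hh1 hh2
  have hc2 : c ^ 2 ∈ N := by
    have := hb c hcQ
    rw [comm_iff_conj.mp hch.symm] at this
    rwa [sq]
  obtain ⟨n₀, hn₀⟩ := exists_pow_of_isP hQp hcQ
  have hcN : c ∈ N := mem_of_sq_mem gd.hp2 hn₀ hc2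
  have hwN : w ∈ N := by
    have : w = c * (w⁻¹ * c)⁻¹ := by group
    rw [this]
    exact mul_mem hcN (inv_mem hwc)
  -- `Q` is cyclic, generated by `y`
  have hQle : Q ≤ zpowers y ⊔ N := by
    rw [hQ, closure_le]
    rintro s (rfl | rfl)
    · exact mem_sup_left (mem_zpowers _)
    · have : y' = y⁻¹ * w := by rw [hw]; group
      rw [this]
      exact mul_mem (mem_sup_left (inv_mem (mem_zpowers _))) (mem_sup_right hwN)
  have hyQle : zpowers y ≤ Q := zpowers_le.mpr hyQ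
  have hLtop : (zpowers y).subgroupOf Q = ⊤ := by
    apply frattini_nongenerating
    rw [eq_top_iff]
    rintro ⟨q, hq⟩ -
    have hq' := hQle hq
    have hmapeq : (((zpowers y).subgroupOf Q ⊔ N.subgroupOf Q).map Q.subtype) = zpowers y ⊔ N := by
      rw [Subgroup.map_sup, Subgroup.map_subgroupOf_eq_of_le hyQle, Subgroup.map_subgroupOf_eq_of_le hNQ]
    rw [← hmapeq] at hq'
    obtain ⟨q', hq'mem, hq'eq⟩ := hq'
    have hqq : q' = ⟨q, hq⟩ := Subtype.ext hq'eq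
    rw [← hqq]
    have hle2 : N.subgroupOf Q ≤ frattini ↥Q := by
      rintro ⟨n, hn⟩ hn2
      rw [mem_subgroupOf] at hn2
      have hnmap : n ∈ (commutator ↥Q).map Q.subtype := by
        rw [Subgroup.map_subtype_commutator]
        exact hn2
      obtain ⟨n', hn', hne⟩ := hnmap
      have : n' = ⟨n, hn⟩ := Subtype.ext hne
      rw [← this]
      exact Cfsg.Agent.Lib.PGroup.Basic.commutator_le_frattini hQp hn'
    exact (sup_le_sup_left hle2 _) hq'mem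
  have hy'z : y' ∈ zpowers y := by
    have : (⟨y', hy'Q⟩ : ↥Q) ∈ (zpowers y).subgroupOf Q := by
      rw [hLtop]; exact mem_top _
    rwa [mem_subgroupOf] at this
  obtain ⟨k, hk⟩ := hy'z
  replace hk : y ^ k = y' := hk
  -- arithmetic
  have h1 : y ^ (k * k) = y := by
    rw [zpow_mul, hk]
    have h2 : y' ^ k = u * y ^ k * u⁻¹ := by
      rw [hy']
      exact conj_zpow
    rw [h2, hk, hyy']
  have h2 : y ^ (k * k - 1) = 1 := by
    rw [zpow_sub, h1, zpow_one, mul_inv_cancel]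
  have h3 : (p : ℤ) ∣ (k - 1) * (k + 1) := by
    rw [← hyo]
    apply orderOf_dvd_iff_zpow_eq_one.mpr
    convert h2 using 2
    ring
  rcases (Nat.prime_iff_prime_int.mp hp.out).dvd_or_dvd h3 with h4 | h4
  · exfalso
    have h5 : y ^ (k - 1) = 1 := by
      rw [← hyo] at h4
      exact orderOf_dvd_iff_zpow_eq_one.mp h4
    have h6 : y' = y := by
      rw [← hk]
      rw [zpow_sub, zpow_one, mul_inv_eq_one] at h5
      exact h5
    have h7 : Commute y u := by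
      rw [hy'] at h6
      exact (comm_iff_conj.mpr h6).symm
    have h8 : Commute y h := L1 gd.hp2 hud hy h7 hh1 hh2
    rw [comm_iff_conj.mp h8.symm] at hi
    have h9 : y ^ 2 = 1 := by
      rw [sq]
      nth_rewrite 1 [hi]
      simp
    have h10 : y = 1 := eq_one_of_sq_of_ppow (n := 1) gd.hp2 (by rw [pow_one, ← hyo]; exact pow_orderOf_eq_one y) h9
    rw [h10, orderOf_one] at hyo
    exact hp.out.one_lt.ne hyo
  · have h5 : y ^ (k + 1) = 1 := by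
      rw [← hyo] at h4
      exact orderOf_dvd_iff_zpow_eq_one.mp h4
    rw [zpow_add, zpow_one, hk] at h5
    exact eq_inv_of_mul_eq_one_left h5

end GPDsec

end Cfsg.Agent.Lib.KM
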