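import Cfsg.Agent.Lib.KM.Q8

set_option autoImplicit false
set_option linter.style.haveILetI false
set_option linter.unusedVariables false
set_option linter.unusedSectionVars false

/-!
# Klinger-Mason: the final contradiction
-/

namespace Cfsg.Agent.Lib.KM

open Subgroup Cfsg
open Cfsg.Agent.Lib.Basic.PCore
open scoped commutatorElement

variable {G : Type*} [Group G]

theorem comm_conj_both {g s y : G} (h : Commute s y) : Commute (g * s * g⁻¹) (g * y * g⁻¹) := by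
  show g * s * g⁻¹ * (g * y * g⁻¹) = g * y * g⁻¹ * (g * s * g⁻¹)
  have h1 : g * s * g⁻¹ * (g * y * g⁻¹) = g * (s * y) * g⁻¹ := by group
  have h2 : g * y * g⁻¹ * (g * s * g⁻¹) = g * (y * s) * g⁻¹ := by group
  rw [h1, h2, h.eq]

/-- Generation with a three-cycle. -/
theorem eig_final [Finite G] {K : Subgroup G} (hK : ¬ 2 ∣ Nat.card K) {a b g : G} (ha2 : a ^ 2 = 1) (hb2 : b ^ 2 = 1)
    (hab : Commute a b) (hne : a ≠ b) (ha1 : a ≠ 1) (hb1 : b ≠ 1) (haK : ∀ y ∈ K, a * y * a⁻¹ ∈ K)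
    (hbK : ∀ y ∈ K, b * y * b⁻¹ ∈ K) (hgK : ∀ y ∈ K, g * y * g⁻¹ ∈ K) (hgK' : ∀ y ∈ K, g⁻¹ * y * g⁻¹⁻¹ ∈ K)
    (hga : g * a * g⁻¹ = b) (hgb : g * b * g⁻¹ = a * b) {y₀ : G} (hy₀ : y₀ ∈ K) (hm : ¬ Commute b y₀) :
    ∃ y ∈ K, Commute a y ∧ ¬ Commute b y := by
  by_contra hcon
  push Not at hcon
  have hbb : b * b = 1 := by rw [← sq, hb2]
  have hginv : g⁻¹ * b * g⁻¹⁻¹ = a := by
    rw [← hga]; group
  have hgab : g * (a * b) * g⁻¹ = a := by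
    have h1 : g * (a * b) * g⁻¹ = (g * a * g⁻¹) * (g * b * g⁻¹) := by group
    rw [h1, hga, hgb, ← mul_assoc, ← hab.eq, mul_assoc, hbb, mul_one]
  have h1 : ∀ y ∈ K, Commute b y → Commute a y := by
    intro y hy hby
    have h2 : Commute a (g⁻¹ * y * g⁻¹⁻¹) := by
      have := comm_conj_both (g := g⁻¹) hby
      rwa [hginv] at this
    have h3 := hcon _ (hgK' y hy) h2
    have h4 := comm_conj_both (g := g) h3
    rw [hgb] at h4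
    have h5 : g * (g⁻¹ * y * g⁻¹⁻¹) * g⁻¹ = y := by group
    rw [h5] at h4
    have h6 : a = (a * b) * b := by rw [mul_assoc, hbb, mul_one]
    rw [h6]
    exact h4.mul_left hby
  have h2 : ∀ y ∈ K, Commute (a * b) y → Commute a y := by
    intro y hy hby
    have h3 := comm_conj_both (g := g) hby
    rw [hgab] at h3
    have h4 := hcon _ (hgK y hy) h3
    have h5 := comm_conj_both (g := g⁻¹) h4
    rw [hginv] at h5
    have h6 : g⁻¹ * (g * y * g⁻¹) * g⁻¹⁻¹ = y := by group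
    rwa [h6] at h5
  have h3 : ∀ y ∈ K, Commute a y := by
    by_contra hc
    push Not at hc
    obtain ⟨y₁, hy₁, hy₁a⟩ := hc
    obtain ⟨y, hy, hy3, hyc⟩ := four_moved ha2 hb2 hab hne ha1 hb1 hK haK hbK hy₁ hy₁a
    rcases hy3 with h | h | h
    · exact hyc h
    · exact hyc (h1 y hy h)
    · exact hyc (h2 y hy h)
  apply hm
  have h4 := comm_conj_both (g := g) (h3 _ (hgK' y₀ hy₀))
  rw [hga] at h4
  have h5 : g * (g⁻¹ * y₀ * g⁻¹⁻¹) * g⁻¹ = y₀ := by group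
  rwa [h5] at h4

section Csec

variable [Finite G] {p r : ℕ} [hp : Fact p.Prime] {u d : G} {X D C : Subgroup G} (gc : GPC p r u d X D C)
include gc

/-- Commuting across two quaternion groups. -/
theorem GPC.cross {z a i j k : G} (hz : z ∈ X) (ha : a ∈ C) (hza : Commute z a) (hi : i ∈ C) (hj : j ∈ C) (hk : k ∈ C)
    (hijk : i * j * k = 1) (hzi : z * i * z⁻¹ = j) (hzj : z * j * z⁻¹ = k) :
    Commute a i ∧ Commute a j ∧ Commute a k := by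
  haveI : Fact (Nat.Prime 2) := ⟨Nat.prime_two⟩
  haveI : Fact (Nat.Prime 3) := ⟨Nat.prime_three⟩
  let f : G → G := fun w => a * w * a⁻¹ * w⁻¹
  have hfC : ∀ w ∈ C, f w ∈ C := fun w hw => (gc.hCcomm a ha w hw).1
  have hfc : ∀ w ∈ C, ∀ c ∈ C, Commute c (f w) := fun w hw c hc => ((gc.hCcomm a ha w hw).2 c hc).symm
  have hfz : ∀ w ∈ C, z * f w * z⁻¹ = f (z * w * z⁻¹) := by
    intro w hw
    have h1 : z * f w * z⁻¹ = (z * a * z⁻¹) * (z * w * z⁻¹) * (z * a * z⁻¹)⁻¹ * (z * w * z⁻¹)⁻¹ := by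
      show z * (a * w * a⁻¹ * w⁻¹) * z⁻¹ = _
      group
    rw [h1, comm_iff_conj.mp hza]
  have hfix : ∀ w ∈ C, f (z * w * z⁻¹) = f w := by
    intro w hw
    rw [← hfz w hw]
    exact comm_iff_conj.mp (gc.center_fix (hfC w hw) (hfc w hw) hz)
  have hji : f j = f i := by rw [← hzi]; exact hfix i hi
  have hkj : f k = f j := by rw [← hzj]; exact hfix j hj
  have hmul : ∀ v ∈ C, ∀ w ∈ C, f (v * w) = f v * f w := by
    intro v hv w hw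
    have h1 : f (v * w) = f v * (v * f w * v⁻¹) := by
      show a * (v * w) * a⁻¹ * (v * w)⁻¹ = a * v * a⁻¹ * v⁻¹ * (v * (a * w * a⁻¹ * w⁻¹) * v⁻¹)
      group
    rw [h1, comm_iff_conj.mp (hfc w hw v hv)]
  have h1 : f (i * j * k) = f i * f i * f i := by
    rw [hmul _ (mul_mem hi hj) _ hk, hmul _ hi _ hj, hkj, hji]
  rw [hijk] at h1
  have h2 : f 1 = 1 := by
    show a * 1 * a⁻¹ * 1⁻¹ = 1
    group
  rw [h2] at h1
  have h3 : f i ^ (3 ^ 1) = 1 := by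
    have h5 : f i ^ (3 ^ 1) = f i * f i * f i := by
      simp [pow_succ]
    rw [h5]
    exact h1.symm
  obtain ⟨n, hn⟩ := exists_pow_of_isP ((Oc_isP 2 u).to_le ((gc.hCT).trans inf_le_left)) (hfC i hi)
  have h4 : f i = 1 := eq_one_of_ppow_of_qpow (p := 3) (q := 2) (by norm_num) h3 hn
  have hcomm : ∀ w, f w = 1 → Commute a w := by
    intro w hw
    have h5 : a * w * a⁻¹ * w⁻¹ = 1 := hw
    rw [mul_inv_eq_one] at h5
    exact comm_iff_conj.mpr h5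
  exact ⟨hcomm i h4, hcomm j (hji.trans h4), hcomm k (hkj.trans (hji.trans h4))⟩

theorem GPC.final : False := by
  classical
  haveI : Fact (Nat.Prime 2) := ⟨Nat.prime_two⟩
  have hr := gc.hr
  have hpp := hp.out.one_lt
  have hdcard : Nat.card (zpowers d) = p := by rw [Nat.card_zpowers, gc.hd]
  have hexists : ∀ A : Subgroup G, p ^ 2 ≤ Nat.card A → ∃ z ∈ A, z ∉ zpowers d := by
    intro A hA
    by_contra hcon
    push Not at hcon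
    have h1 : Nat.card A ≤ p := by
      rw [← hdcard]
      exact Subgroup.card_le_of_le hcon
    nlinarith
  have hmoved : ∀ z ∈ X, z ∉ zpowers d → ∃ w ∈ C, ¬ Commute z w := by
    intro z hz hzd
    apply gc.hCmove z hz
    by_contra hcon
    push Not at hcon
    exact hzd (gc.claimE hz (fun w hw => (hcon w hw).symm))
  have hXu := gc.hXu
  have hXd : ∀ x ∈ X, Commute x d := fun x hx => gc.X_d hx
  have hXX : ∀ {x y : G}, x ∈ X → y ∈ X → Commute x y := fun hx hy => isEA_comm gc.hX hx hy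
  obtain ⟨z₁, hz₁, hz₁d⟩ := hexists X (by
    rw [gc.hXc]; exact Nat.pow_le_pow_right hp.out.pos (by omega))
  obtain ⟨w₁, hw₁, hm₁⟩ := hmoved z₁ hz₁ hz₁d
  obtain ⟨F₁, hF₁X, hF₁c, hdF₁, hz₁F₁, htop₁, x₁, hx₁, hx₁F, hz₁x₁⟩ := gc.root gc.hCT gc.hCX hz₁ hw₁ hm₁
  have hQ₁ : ∀ y ∈ C, (∀ f ∈ F₁, Commute f y) → y ^ 2 = 1 → y = 1 ∨ y = u := fun y hy hyF hy2 =>
    gc.lemmaQ hF₁X hF₁c hdF₁ hz₁ htop₁ hy hyF hy2
  obtain ⟨z₂, hz₂F₁, hz₂d⟩ := hexists F₁ (by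
    rw [hF₁c]; exact Nat.pow_le_pow_right hp.out.pos (by omega))
  have hz₂ : z₂ ∈ X := hF₁X hz₂F₁
  obtain ⟨w₂, hw₂, hm₂⟩ := hmoved z₂ hz₂ hz₂d
  obtain ⟨F₂, hF₂X, hF₂c, hdF₂, hz₂F₂, htop₂, x₂, hx₂, hx₂F, hz₂x₂⟩ := gc.root gc.hCT gc.hCX hz₂ hw₂ hm₂
  have hQ₂ : ∀ y ∈ C, (∀ f ∈ F₂, Commute f y) → y ^ 2 = 1 → y = 1 ∨ y = u := fun y hy hyF hy2 =>
    gc.lemmaQ hF₂X hF₂c hdF₂ hz₂ htop₂ hy hyF hy2
  -- the `F₂`-component of `z₁`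
  have hcF₂ : ∀ a ∈ F₂, Commute a z₂ := fun a ha => hXX (hF₂X ha) hz₂
  have hz₁' : z₁ ∈ F₂ ⊔ zpowers z₂ := by rw [htop₂]; exact hz₁
  obtain ⟨t₁, ht₁F₂, m, ht₁e⟩ := (mem_sup_zpowers_iff hcF₂).mp hz₁'
  have ht₁X : t₁ ∈ X := hF₂X ht₁F₂
  have hz₂x₁ : Commute z₂ x₁ := hx₁F z₂ hz₂F₁
  have ht₁x₁ : ¬ Commute t₁ x₁ := by
    intro h
    apply hz₁x₁
    rw [ht₁e]
    exact h.mul_left (hz₂x₁.zpow_left m)
  obtain ⟨-, i₁, j₁, k₁, hi₁, hj₁, hk₁, hi₁F, hj₁F, hk₁F, hii₁, hjj₁, hkk₁, hij₁, hijk₁, hti, htj, htk, hti₁⟩ :=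
    gc.q8 hF₁X hQ₁ ht₁X hx₁ hx₁F ht₁x₁
  obtain ⟨-, i₂, j₂, k₂, hi₂, hj₂, hk₂, hi₂F, hj₂F, hk₂F, hii₂, hjj₂, hkk₂, hij₂, hijk₂, hzi, hzj, hzk, hzi₂⟩ :=
    gc.q8 hF₂X hQ₂ hz₂ hx₂ hx₂F hz₂x₂
  -- commutation
  have c₁ := gc.cross hz₂ hi₁ (hi₁F z₂ hz₂F₁) hi₂ hj₂ hk₂ hijk₂ hzi hzj
  have c₂ := gc.cross hz₂ hj₁ (hj₁F z₂ hz₂F₁) hi₂ hj₂ hk₂ hijk₂ hzi hzj
  have c₃ := gc.cross hz₂ hk₁ (hk₁F z₂ hz₂F₁) hi₂ hj₂ hk₂ hijk₂ hzi hzj
  obtain ⟨c11, c12, c13⟩ := c₁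
  obtain ⟨c21, c22, c23⟩ := c₂
  obtain ⟨c31, c32, c33⟩ := c₃
  have huu := gc.uu
  have hCu : ∀ w ∈ C, Commute u w := fun w hw => (gc.C_u hw).symm
  -- the involutions
  obtain ⟨α, hαe⟩ : ∃ α, α = i₁ * i₂ := ⟨_, rfl⟩
  obtain ⟨β, hβe⟩ : ∃ β, β = j₁ * j₂ := ⟨_, rfl⟩
  obtain ⟨g, hge⟩ : ∃ g, g = t₁ * z₂ := ⟨_, rfl⟩
  have hαC : α ∈ C := hαe ▸ mul_mem hi₁ hi₂
  have hβC : β ∈ C := hβe ▸ mul_mem hj₁ hj₂
  have hgX : g ∈ X := hge ▸ mul_mem ht₁X hz₂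
  have hα2 : α ^ 2 = 1 := by
    rw [hαe, c11.mul_pow, sq, sq, hii₁, hii₂, huu]
  have hβ2 : β ^ 2 = 1 := by
    rw [hβe, c22.mul_pow, sq, sq, hjj₁, hjj₂, huu]
  have hαβ : Commute α β := by
    show α * β = β * α
    rw [hαe, hβe]
    calc i₁ * i₂ * (j₁ * j₂) = i₁ * (i₂ * j₁) * j₂ := by group
      _ = i₁ * (j₁ * i₂) * j₂ := by rw [c21.eq]
      _ = (i₁ * j₁) * (i₂ * j₂) := by group
      _ = (u * (j₁ * i₁)) * (u * (j₂ * i₂)) := by rw [hij₁, hij₂]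
      _ = u * u * (j₁ * i₁ * (j₂ * i₂)) := by
        rw [mul_assoc u, ← mul_assoc (j₁ * i₁) u, ((hCu _ (mul_mem hj₁ hi₁)).eq).symm]
        group
      _ = j₁ * i₁ * (j₂ * i₂) := by rw [huu, one_mul]
      _ = j₁ * (i₁ * j₂) * i₂ := by group
      _ = j₁ * (j₂ * i₁) * i₂ := by rw [c12.eq]
      _ = j₁ * j₂ * (i₁ * i₂) := by group
  have hgα : g * α * g⁻¹ = β := by
    rw [hge, hαe, hβe]
    have h1 : t₁ * z₂ * (i₁ * i₂) * (t₁ * z₂)⁻¹ = t₁ * ((z₂ * i₁ * z₂⁻¹) * (z₂ * i₂ * z₂⁻¹)) * t₁⁻¹ := by group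
    rw [h1, comm_iff_conj.mp (hi₁F z₂ hz₂F₁), hzi]
    have h2 : t₁ * (i₁ * j₂) * t₁⁻¹ = (t₁ * i₁ * t₁⁻¹) * (t₁ * j₂ * t₁⁻¹) := by group
    rw [h2, hti, comm_iff_conj.mp (hj₂F t₁ ht₁F₂)]
  have hgβ' : g * β * g⁻¹ = k₁ * k₂ := by
    rw [hge, hβe]
    have h1 : t₁ * z₂ * (j₁ * j₂) * (t₁ * z₂)⁻¹ = t₁ * ((z₂ * j₁ * z₂⁻¹) * (z₂ * j₂ * z₂⁻¹)) * t₁⁻¹ := by group
    rw [h1, comm_iff_conj.mp (hj₁F z₂ hz₂F₁), hzj]
    have h2 : t₁ * (j₁ * k₂) * t₁⁻¹ = (t₁ * j₁ * t₁⁻¹) * (t₁ * k₂ * t₁⁻¹) := by group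
    rw [h2, htj, comm_iff_conj.mp (hk₂F t₁ ht₁F₂)]
  have hαβk : α * β = k₁ * k₂ := by
    have h1 : i₁ * j₁ = k₁ * u := by
      have h2 : i₁ * j₁ = k₁⁻¹ := eq_inv_of_mul_eq_one_left hijk₁
      rw [h2, inv_eq_iff_mul_eq_one, ← mul_assoc, hkk₁, huu]
    have h1' : i₂ * j₂ = k₂ * u := by
      have h2 : i₂ * j₂ = k₂⁻¹ := eq_inv_of_mul_eq_one_left hijk₂
      rw [h2, inv_eq_iff_mul_eq_one, ← mul_assoc, hkk₂, huu]
    rw [hαe, hβe]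
    calc i₁ * i₂ * (j₁ * j₂) = i₁ * (i₂ * j₁) * j₂ := by group
      _ = i₁ * (j₁ * i₂) * j₂ := by rw [c21.eq]
      _ = (i₁ * j₁) * (i₂ * j₂) := by group
      _ = (k₁ * u) * (k₂ * u) := by rw [h1, h1']
      _ = k₁ * (u * k₂) * u := by group
      _ = k₁ * (k₂ * u) * u := by rw [(hCu _ hk₂).eq]
      _ = k₁ * k₂ * (u * u) := by group
      _ = k₁ * k₂ := by rw [huu, mul_one]
  have hgβ : g * β * g⁻¹ = α * β := by rw [hgβ', hαβk]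
  have hα1 : α ≠ 1 := by
    intro h
    apply hti₁
    have h1 : i₁ = i₂⁻¹ := by
      rw [hαe] at h
      exact eq_inv_of_mul_eq_one_left h
    rw [h1]
    exact (hi₂F t₁ ht₁F₂).inv_right
  have hβ1 : β ≠ 1 := by
    intro h
    apply hα1
    rw [← hgα] at h
    have h1 : g * α = g := by rwa [mul_inv_eq_one] at h
    exact mul_eq_left.mp h1
  have hαβne : α ≠ β := by
    intro h
    have h1 : g * β * g⁻¹ = β := by
      rw [← h]; rw [h] at hgα ; rw [h]; exact hgα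
    rw [hgβ, ← h] at h1
    have h2 : α * α = 1 := by rw [← sq, hα2]
    rw [h2] at h1
    exact hα1 h1.symm
  have hβT : β ∈ TT u d := gc.hCT hβC
  have hαu : Commute α u := gc.C_u hαC
  have hβu : Commute β u := gc.C_u hβC
  have hαd : Commute α d := gc.C_d hαC
  have hβd : Commute β d := gc.C_d hβC
  have hαo : orderOf α = 2 := orderOf_eq_prime hα2 hα1
  have hβo : orderOf β = 2 := orderOf_eq_prime hβ2 hβ1
  have hβco := gc.ne_one_of_two hβo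
  have hgu : Commute g u := hXu g hgX
  have hgd : Commute g d := hXd g hgX
  -- `F₀`
  set F₀ : Subgroup G := F₁ ⊓ F₂ with hF₀
  have hF₀X : F₀ ≤ X := inf_le_left.trans hF₁X
  have hdF₀ : d ∈ F₀ := ⟨hdF₁, hdF₂⟩
  have hF₀p : IsPGroup p F₀ := (Cfsg.Agent.Lib.Coprime.GenerationE.isPGroup_of_isElementaryAbelian gc.hX).to_le hF₀X
  have hαF₀ : ∀ f ∈ F₀, Commute α f := by
    intro f hf
    rw [hαe]
    exact (hi₁F f hf.1).symm.mul_left (hi₂F f hf.2).symm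
  have hβF₀ : ∀ f ∈ F₀, Commute β f := by
    intro f hf
    rw [hβe]
    exact (hj₁F f hf.1).symm.mul_left (hj₂F f hf.2).symm
  have hgF₀ : ∀ f ∈ F₀, Commute g f := fun f hf => hXX hgX (hF₀X hf)
  have huF₀ : ∀ f ∈ F₀, Commute u f := fun f hf => (hXu f (hF₀X hf)).symm
  -- the order of `F₀`
  have ht₁F₁ : t₁ ∉ F₁ := fun h => ht₁x₁ (hx₁F t₁ h)
  have ht₁F₀ : t₁ ∉ F₀ := fun h => ht₁F₁ h.1
  have hc₀t : ∀ a ∈ F₀, Commute a t₁ := fun a ha => hXX (hF₀X ha) ht₁X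
  have hXle : X ≤ F₁ ⊔ zpowers t₁ := by
    rw [← htop₁]
    apply sup_le le_sup_left
    rw [zpowers_le, ht₁e]
    have h1 : z₂ ^ m ∈ F₁ := zpow_mem hz₂F₁ m
    have h2 : t₁ * z₂ ^ m = z₂ ^ m * t₁ := ((hXX hz₂ ht₁X).zpow_left m).eq.symm
    rw [h2]
    exact mul_mem (mem_sup_left h1) (mem_sup_right (mem_zpowers t₁))
  have hF₂eq : F₀ ⊔ zpowers t₁ = F₂ := by
    apply le_antisymm (sup_le inf_le_right (zpowers_le.mpr ht₁F₂))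
    intro f hf
    have hfX := hXle (hF₂X hf)
    have hc : ∀ a ∈ F₁, Commute a t₁ := fun a ha => hXX (hF₁X ha) ht₁X
    obtain ⟨a, ha, n, hae⟩ := (mem_sup_zpowers_iff hc).mp hfX
    have haF₂ : a ∈ F₂ := by
      have : a = f * (t₁ ^ n)⁻¹ := by rw [hae]; group
      rw [this]
      exact mul_mem hf (inv_mem (zpow_mem ht₁F₂ n))
    rw [hae]
    exact mul_mem (mem_sup_left ⟨ha, haF₂⟩) (mem_sup_right (zpow_mem (mem_zpowers t₁) n))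
  have hF₀c : Nat.card F₀ * p = p ^ (r - 1) := by
    rw [← hF₂c, ← hF₂eq]
    exact (card_sup_zpowers' hc₀t (gc.hX.2 t₁ ht₁X) ht₁F₀).symm
  -- `lam`
  have hDp : IsPGroup p D := (Oc_isP p d).to_le gc.hDP
  obtain ⟨y₁, hy₁, hy₁m⟩ := gc.moved_D hβ1 hβco hβd hF₀p (fun b hb => hXd b (hF₀X hb)) hβF₀
  have hY₀p : IsPGroup p (D ⊓ centralizer (F₀ : Set G) : Subgroup G) := hDp.to_le inf_le_left
  have hact : ∀ t : G, Commute t d → (∀ f ∈ F₀, Commute t f) →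
      ∀ y ∈ D ⊓ centralizer (F₀ : Set G), t * y * t⁻¹ ∈ D ⊓ centralizer (F₀ : Set G) :=
    fun t h1 h2 y hy => act_cent (gc.hDinv t h1) h2 hy
  obtain ⟨y₂, hy₂, hy₂α, hy₂β⟩ := eig_final (not_dvd_of_isP gc.hp2 hY₀p) hα2 hβ2 hαβ hαβne hα1 hβ1
    (hact α hαd hαF₀) (hact β hβd hβF₀) (hact g hgd hgF₀)
    (hact g⁻¹ hgd.inv_left (fun f hf => (hgF₀ f hf).inv_left)) hgα hgβ hy₁ hy₁m
  obtain ⟨lam, ⟨hlamY, hlamα⟩, hlamo, hlami⟩ := exists_inverted (K := (D ⊓ centralizer (F₀ : Set G)) ⊓ centralizer ({α} : Set G))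
    (hY₀p.to_le inf_le_left) hβ2 (fun y hy => act_comm (hact β hβd hβF₀) hαβ.symm hy)
    ⟨hy₂, mem_centralizer_of_comm hy₂α.symm⟩ hy₂β
  obtain ⟨hlamD, hlamF⟩ := mem_cent_iff.mp hlamY
  have hlamα' : Commute α lam := (comm_of_mem_centralizer hlamα).symm
  have hlam1 : lam ≠ 1 := by
    intro h
    rw [h, orderOf_one] at hlamo
    exact hpp.ne hlamo
  have hlamu : u * lam * u⁻¹ = lam⁻¹ := gc.inv_u_of_inv_D hlamD hβd hβu hlami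
  -- the conjugate `lam₀`
  have hi₁d : Commute i₁ d := gc.C_d hi₁
  have hi₁α : Commute i₁ α := by
    rw [hαe]; exact (Commute.refl i₁).mul_right c11
  have hi₁F₀ : ∀ f ∈ F₀, Commute i₁ f := fun f hf => (hi₁F f hf.1).symm
  have hβi₁ : β * i₁ = i₁ * (u * β) := by
    have h1 : j₁ * i₁ = u * (i₁ * j₁) := by
      rw [hij₁, ← mul_assoc, huu, one_mul]
    rw [hβe]
    calc j₁ * j₂ * i₁ = j₁ * (j₂ * i₁) := by group
      _ = j₁ * (i₁ * j₂) := by rw [c12.eq]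
      _ = (j₁ * i₁) * j₂ := by group
      _ = (u * (i₁ * j₁)) * j₂ := by rw [h1]
      _ = (u * i₁) * (j₁ * j₂) := by group
      _ = (i₁ * u) * (j₁ * j₂) := by rw [(hCu _ hi₁).eq]
      _ = _ := by group
  obtain ⟨lam₀, hlam₀e⟩ : ∃ lam₀, lam₀ = i₁ * lam * i₁⁻¹ := ⟨_, rfl⟩
  have hlam₀α : Commute α lam₀ := by
    apply comm_iff_conj.mpr
    rw [hlam₀e]
    have h1 : α * (i₁ * lam * i₁⁻¹) * α⁻¹ = (α * i₁) * lam * (α * i₁)⁻¹ := by group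
    rw [h1, hi₁α.symm.eq]
    have h2 : (i₁ * α) * lam * (i₁ * α)⁻¹ = i₁ * (α * lam * α⁻¹) * i₁⁻¹ := by group
    rw [h2, comm_iff_conj.mp hlamα']
  have hlam₀β : Commute β lam₀ := by
    apply comm_iff_conj.mpr
    rw [hlam₀e]
    have h1 : β * (i₁ * lam * i₁⁻¹) * β⁻¹ = (β * i₁) * lam * (β * i₁)⁻¹ := by group
    rw [h1, hβi₁]
    have h2 : (i₁ * (u * β)) * lam * (i₁ * (u * β))⁻¹ = i₁ * (u * (β * lam * β⁻¹) * u⁻¹) * i₁⁻¹ := by group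
    rw [h2, hlami]
    have h3 : u * lam⁻¹ * u⁻¹ = (u * lam * u⁻¹)⁻¹ := by group
    rw [h3, hlamu, inv_inv]
  have hlam₀u : u * lam₀ * u⁻¹ = lam₀⁻¹ := by
    rw [hlam₀e]
    have h1 : u * (i₁ * lam * i₁⁻¹) * u⁻¹ = (u * i₁) * lam * (u * i₁)⁻¹ := by group
    rw [h1, (hCu _ hi₁).eq]
    have h2 : (i₁ * u) * lam * (i₁ * u)⁻¹ = i₁ * (u * lam * u⁻¹) * i₁⁻¹ := by group
    rw [h2, hlamu]
    group
  have hlam₀D : lam₀ ∈ D := hlam₀e ▸ gc.hDinv i₁ hi₁d lam hlamD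
  have hlam₀F : ∀ f ∈ F₀, Commute f lam₀ := fun f hf => by
    rw [hlam₀e]
    exact comm_conj (hi₁F₀ f hf) (hlamF f hf)
  have hlam₀d : lam₀ ∉ zpowers d := by
    rintro ⟨k, hk⟩
    replace hk : d ^ k = lam₀ := hk
    have hcu : Commute u lam₀ := by
      rw [← hk]; exact gc.d_u.symm.zpow_right k
    have h1 := gc.eq_one_of_fix_inv (gc.hDexp lam₀ hlam₀D) hcu hlam₀u
    apply hlam1
    rw [hlam₀e] at h1
    have h2 : i₁ * lam = i₁ := by rwa [mul_inv_eq_one] at h1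
    exact mul_eq_left.mp h2
  -- `G₀` and the fixed inverted element
  have hgp : g ^ p = 1 := gc.hX.2 g hgX
  have hgab : g * (α * β) * g⁻¹ = α := by
    have h1 : g * (α * β) * g⁻¹ = (g * α * g⁻¹) * (g * β * g⁻¹) := by group
    have hbb : β * β = 1 := by rw [← sq, hβ2]
    rw [h1, hgα, hgβ, ← mul_assoc, ← hαβ.eq, mul_assoc, hbb, mul_one]
  let G₀ : Subgroup G := ((D ⊓ centralizer (F₀ : Set G)) ⊓ centralizer ({α} : Set G)) ⊓ centralizer ({β} : Set G)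
  have hG₀mem : ∀ y, y ∈ G₀ ↔ y ∈ D ∧ (∀ f ∈ F₀, Commute f y) ∧ Commute α y ∧ Commute β y := by
    intro y
    constructor
    · rintro ⟨⟨h1, h2⟩, h3⟩
      obtain ⟨h4, h5⟩ := mem_cent_iff.mp h1
      exact ⟨h4, h5, (comm_of_mem_centralizer h2).symm, (comm_of_mem_centralizer h3).symm⟩
    · rintro ⟨h1, h2, h3, h4⟩
      exact ⟨⟨mem_cent_iff.mpr ⟨h1, h2⟩, mem_centralizer_of_comm h3.symm⟩, mem_centralizer_of_comm h4.symm⟩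
  have hgG₀ : ∀ y ∈ G₀, g * y * g⁻¹ ∈ G₀ := by
    intro y hy
    obtain ⟨h1, h2, h3, h4⟩ := (hG₀mem y).mp hy
    refine (hG₀mem _).mpr ⟨gc.hDinv g hgd y h1, fun f hf => comm_conj (hgF₀ f hf) (h2 f hf), ?_, ?_⟩
    · have h5 := comm_conj_both (g := g) (h3.mul_left h4)
      rwa [hgab] at h5
    · have h5 := comm_conj_both (g := g) h3
      rwa [hgα] at h5
  have hWp : IsPGroup p (zpowers g) :=
    Cfsg.Agent.Lib.Coprime.GenerationE.isPGroup_of_isElementaryAbelian (isEA_zpowers hgp)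
  obtain ⟨y₀, hy₀G, hy₀1, hy₀u, hy₀g⟩ := gc.fixed_inverted (Y := G₀) (W := zpowers g)
    (fun y hy => ((hG₀mem y).mp hy).1)
    ((hG₀mem d).mpr ⟨gc.hdD, fun f hf => hXd f (hF₀X hf), hαd, hβd⟩)
    (by
      intro y hy
      obtain ⟨h1, h2, h3, h4⟩ := (hG₀mem y).mp hy
      exact (hG₀mem _).mpr ⟨gc.hDinv u gc.d_u.symm y h1, fun f hf => comm_conj (huF₀ f hf) (h2 f hf),
        comm_conj hαu.symm h3, comm_conj hβu.symm h4⟩)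
    hWp
    (by rintro _ ⟨k, rfl⟩; exact hgd.zpow_left k)
    (by rintro _ ⟨k, rfl⟩; exact hgu.zpow_left k)
    (zpow_act hgG₀)
    ((hG₀mem _).mpr ⟨hlam₀D, hlam₀F, hlam₀α, hlam₀β⟩) hlam₀d
  obtain ⟨hy₀D, hy₀F, hy₀α, hy₀β⟩ := (hG₀mem y₀).mp hy₀G
  have hy₀gc : Commute g y₀ := hy₀g g (mem_zpowers g)
  have hy₀p : y₀ ^ p = 1 := gc.hDexp y₀ hy₀D
  have hy₀lam : Commute y₀ lam := gc.comm_of_inv hβd hy₀D hlamD hy₀β hlami
  have hy₀F₀ : y₀ ∉ F₀ := fun h => hy₀1 (gc.eq_one_of_fix_inv hy₀p (huF₀ y₀ h) hy₀u)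
  -- the group `B`
  have hE := isEA_sup (isEA_mono gc.hX hF₀X) hy₀F hy₀p
  have hBc : Nat.card (F₀ ⊔ zpowers y₀ : Subgroup G) = p ^ (r - 1) := by
    rw [card_sup_zpowers' hy₀F hy₀p hy₀F₀, hF₀c]
  have hdB : d ∈ (F₀ ⊔ zpowers y₀ : Subgroup G) := mem_sup_left hdF₀
  have hBcomm : ∀ t : G, (∀ f ∈ F₀, Commute t f) → Commute t y₀ → ∀ b ∈ (F₀ ⊔ zpowers y₀ : Subgroup G), Commute t b := by
    intro t h1 h2 b hb
    obtain ⟨f, hf, k, rfl⟩ := (mem_sup_zpowers_iff hy₀F).mp hb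
    exact (h1 f hf).mul_right (h2.zpow_right k)
  refine gc.kill hE hBc hdB hαo (hBcomm α hαF₀ hy₀α) hβT (hBcomm β hβF₀ hy₀β) hlamD
    (hBcomm lam (fun f hf => (hlamF f hf).symm) hy₀lam.symm) hlamα'.symm hlamo hlami ?_
  intro x hxB hxd
  have hx1 : x ≠ 1 := fun h => hxd (h ▸ one_mem _)
  have hxo : orderOf x = p := orderOf_eq_of_pow hx1 (hE.2 x hxB)
  have hBp : IsPGroup p (F₀ ⊔ zpowers y₀ : Subgroup G) :=
    Cfsg.Agent.Lib.Coprime.GenerationE.isPGroup_of_isElementaryAbelian hE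
  have hBx : ∀ b ∈ (F₀ ⊔ zpowers y₀ : Subgroup G), Commute b x := fun b hb => isEA_comm hE hb hxB
  have hβB := hBcomm β hβF₀ hy₀β
  have hαB := hBcomm α hαF₀ hy₀α
  have hgB := hBcomm g hgF₀ hy₀gc
  have hinvB : ∀ b ∈ (F₀ ⊔ zpowers y₀ : Subgroup G), Commute g⁻¹ b := fun b hb => (hgB b hb).inv_left
  obtain ⟨y₃, hy₃, hy₃m⟩ := moved_Oc gc.locp hxo hβ1 hβco (hβB x hxB) hBp hBx hβB
  have hKp : IsPGroup p (Oc p x ⊓ centralizer ((F₀ ⊔ zpowers y₀ : Subgroup G) : Set G) : Subgroup G) :=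
    (Oc_isP p x).to_le inf_le_left
  have hactK : ∀ t : G, (∀ b ∈ (F₀ ⊔ zpowers y₀ : Subgroup G), Commute t b) →
      ∀ y ∈ Oc p x ⊓ centralizer ((F₀ ⊔ zpowers y₀ : Subgroup G) : Set G),
        t * y * t⁻¹ ∈ Oc p x ⊓ centralizer ((F₀ ⊔ zpowers y₀ : Subgroup G) : Set G) :=
    fun t h y hy => act_cent (fun w hw => Oc_conj (h x hxB) hw) h hy
  obtain ⟨y₄, hy₄, hy₄α, hy₄β⟩ := eig_final (not_dvd_of_isP gc.hp2 hKp) hα2 hβ2 hαβ hαβne hα1 hβ1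
    (hactK α hαB) (hactK β hβB) (hactK g hgB) (hactK g⁻¹ hinvB) hgα hgβ hy₃ hy₃m
  obtain ⟨y₅, ⟨hy₅K, hy₅α⟩, hy₅o, hy₅i⟩ := exists_inverted
    (K := (Oc p x ⊓ centralizer ((F₀ ⊔ zpowers y₀ : Subgroup G) : Set G)) ⊓ centralizer ({α} : Set G))
    (hKp.to_le inf_le_left) hβ2 (fun y hy => act_comm (hactK β hβB) hαβ.symm hy)
    ⟨hy₄, mem_centralizer_of_comm hy₄α.symm⟩ hy₄β
  obtain ⟨hy₅O, hy₅B⟩ := mem_cent_iff.mp hy₅K
  exact ⟨y₅, hy₅O, fun b hb => (hy₅B b hb).symm, comm_of_mem_centralizer hy₅α, hy₅o, hy₅i⟩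

end Csec

end Cfsg.Agent.Lib.KM
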