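import Cfsg.Agent.Lib.KM.Tools

set_option autoImplicit false
set_option linter.style.haveILetI false
set_option linter.unusedVariables false
set_option linter.unusedSectionVars false

/-!
# Klinger-Mason: critical subgroups in the ambient group, good pairs
-/

namespace Cfsg.Agent.Lib.KM

open Subgroup Cfsg
open Cfsg.Agent.Lib.Basic.PCore
open scoped commutatorElement

variable {G : Type*} [Group G]

theorem not_isCyclic_of_indep {S : Type*} [Group S] [Finite S] {p : ℕ} [hp : Fact p.Prime] {a b : S}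
    (ha : orderOf a = p) (hb : b ^ p = 1) (hab : b ∉ zpowers a) : ¬ IsCyclic S := by
  intro hc
  classical
  haveI := Fintype.ofFinite S
  have h1 := IsCyclic.card_pow_eq_one_le (α := S) (n := p) hp.out.pos
  have hz : (Finset.univ.filter (· ∈ zpowers a)).card = p := by
    rw [← ha, ← Nat.card_zpowers, Nat.card_eq_fintype_card, Fintype.card_subtype]
  have hsub : insert b (Finset.univ.filter (· ∈ zpowers a)) ⊆ Finset.univ.filter (fun x : S => x ^ p = 1) := by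
    intro x hx
    rw [Finset.mem_insert, Finset.mem_filter] at hx
    rw [Finset.mem_filter]
    refine ⟨Finset.mem_univ _, ?_⟩
    rcases hx with rfl | ⟨-, ⟨k, rfl⟩⟩
    · exact hb
    · show (a ^ k) ^ p = 1
      rw [← zpow_natCast, ← zpow_mul, mul_comm, zpow_mul, zpow_natCast, ← ha, pow_orderOf_eq_one, one_zpow]
  have h2 := Finset.card_le_card hsub
  rw [Finset.card_insert_of_notMem (by simpa using hab), hz] at h2
  omega

/-- Critical subgroup of a `q`-subgroup, with the invariance under a group acting on it. -/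
theorem exists_crit [Finite G] {q : ℕ} [hq : Fact q.Prime] {T X : Subgroup G} (hT : IsPGroup q T)
    (hXT : ∀ x ∈ X, ∀ y ∈ T, x * y * x⁻¹ ∈ T) :
    ∃ C : Subgroup G, C ≤ T ∧ (∀ x ∈ X, ∀ y ∈ C, x * y * x⁻¹ ∈ C) ∧
      (∀ a ∈ C, ∀ b ∈ C, a * b * a⁻¹ * b⁻¹ ∈ C ∧ ∀ c ∈ C, Commute (a * b * a⁻¹ * b⁻¹) c) ∧
      (∀ a ∈ C, a ^ q ∈ C ∧ ∀ c ∈ C, Commute (a ^ q) c) ∧
      (∀ n : ℕ, q ∣ n.choose 2 → ∀ a ∈ C, ∀ b ∈ C, (a * b) ^ n = a ^ n * b ^ n) ∧
      (∀ x ∈ X, (orderOf x).Coprime q → ∀ n : ℕ, q ∣ n → q ∣ n.choose 2 →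
        (∀ y ∈ C, y ^ n = 1 → Commute x y) → ∀ y ∈ T, Commute x y) ∧
      (∀ y ∈ T, (∀ c ∈ C, Commute y c) → y ∈ C) := by
  obtain ⟨H, hchar, h1, h2, h3⟩ := Cfsg.Agent.Lib.PGroup.Critical.exists_critical hT
  have hXN : X ≤ normalizer (T : Set G) := le_normalizer_of hXT
  let φ : ↥X →* MulAut ↥T := T.normalizerMonoidHom.comp (inclusion hXN)
  have hφ : ∀ (x : ↥X) (y : ↥T), ((φ x y : ↥T) : G) = x * y * (x : G)⁻¹ := fun x y => rfl
  have hcomm : ∀ a ∈ H, ∀ b ∈ H, ⁅a, b⁆ ∈ H ⊓ centralizer (H : Set ↥T) := fun a ha b hb =>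
    h2 (commutator_mem_commutator ha (mem_top b))
  have hpow : ∀ a ∈ H, a ^ q ∈ H ∧ a ^ q ∈ centralizer (H : Set ↥T) := by
    intro a ha
    have hHp : IsPGroup q H := hT.to_subgroup H
    have hf := Cfsg.Agent.Lib.PGroup.Basic.pow_mem_frattini hHp (⟨a, ha⟩ : H)
    have hc : a ^ q ∈ centralizer (H : Set ↥T) := by
      have := h1 ⟨_, hf, rfl⟩
      simpa using this
    exact ⟨pow_mem ha q, hc⟩
  refine ⟨H.map T.subtype, ?_, ?_, ?_, ?_, ?_, ?_, ?_⟩
  · rintro _ ⟨y, -, rfl⟩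
    exact y.2
  · rintro x hx _ ⟨y, hy, rfl⟩
    refine ⟨φ ⟨x, hx⟩ y, ?_, rfl⟩
    exact (characteristic_iff_map_le.mp hchar (φ ⟨x, hx⟩)) ⟨y, hy, rfl⟩
  · rintro _ ⟨a, ha, rfl⟩ _ ⟨b, hb, rfl⟩
    have hc := hcomm a ha b hb
    refine ⟨⟨⁅a, b⁆, hc.1, rfl⟩, ?_⟩
    rintro _ ⟨c, hcm, rfl⟩
    have := (mem_centralizer_iff.mp hc.2 c hcm)
    have h4 := congrArg Subtype.val this
    exact h4.symm
  · rintro _ ⟨a, ha, rfl⟩
    have hc := hpow a ha
    refine ⟨⟨a ^ q, hc.1, rfl⟩, ?_⟩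
    rintro _ ⟨c, hcm, rfl⟩
    have := (mem_centralizer_iff.mp hc.2 c hcm)
    have h4 := congrArg Subtype.val this
    exact h4.symm
  · rintro n hn _ ⟨a, ha, rfl⟩ _ ⟨b, hb, rfl⟩
    have := Cfsg.Agent.Lib.PGroup.Critical.critical_mul_pow hT h1 h2 hn ha hb
    have h4 := congrArg Subtype.val this
    exact h4
  · intro x hx hcop n hqn hn hfix y hy
    have hord : (orderOf (φ ⟨x, hx⟩)).Coprime q := by
      have h5 : orderOf (φ ⟨x, hx⟩) ∣ orderOf (⟨x, hx⟩ : ↥X) := orderOf_map_dvd _ _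
      rw [Subgroup.orderOf_mk] at h5
      exact Nat.Coprime.coprime_dvd_left h5 hcop
    have hmul : ∀ a ∈ H, ∀ b ∈ H, (a * b) ^ n = a ^ n * b ^ n := fun a ha b hb =>
      Cfsg.Agent.Lib.PGroup.Critical.critical_mul_pow hT h1 h2 hn ha hb
    have hH : ∀ a ∈ H, φ ⟨x, hx⟩ a ∈ H := fun a ha =>
      (characteristic_iff_map_le.mp hchar (φ ⟨x, hx⟩)) ⟨a, ha, rfl⟩
    have hfix' : ∀ a ∈ H, a ^ n = 1 → φ ⟨x, hx⟩ a = a := by
      intro a ha han
      apply Subtype.ext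
      rw [hφ]
      apply comm_iff_conj.mp
      apply hfix _ ⟨a, ha, rfl⟩
      show ((a : G)) ^ n = 1
      have := congrArg Subtype.val han
      simpa using this
    have h6 := Cfsg.Agent.Lib.PGroup.Critical.fixes_of_fixes_kernel hT H (φ ⟨x, hx⟩) hord hH hqn hmul hfix'
    have h7 := Cfsg.Agent.S0121.result hT H hchar h1 h2 h3 (φ ⟨x, hx⟩) hord h6
    have h8 : φ ⟨x, hx⟩ ⟨y, hy⟩ = ⟨y, hy⟩ := by rw [h7]; rfl
    have h9 := congrArg Subtype.val h8
    rw [hφ] at h9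
    exact comm_iff_conj.mpr h9
  · intro y hy hc
    refine ⟨⟨y, hy⟩, h3 ?_, rfl⟩
    rw [mem_centralizer_iff]
    intro c hcm
    apply Subtype.ext
    exact (hc _ ⟨c, hcm, rfl⟩).eq.symm

/-- Local hypotheses. -/
structure Ctx (p : ℕ) (G : Type*) [Group G] : Prop where
  hp2 : p ≠ 2
  locp : LocChar p G
  loc2 : LocChar 2 G

/-- `T = C_J(d)`. -/
def TT (u d : G) : Subgroup G := Oc 2 u ⊓ centralizer ({d} : Set G)

theorem mem_TT {u d w : G} : w ∈ TT u d ↔ w ∈ Oc 2 u ∧ Commute w d := by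
  constructor
  · rintro ⟨h1, h2⟩
    exact ⟨h1, comm_of_mem_centralizer h2⟩
  · rintro ⟨h1, h2⟩
    exact ⟨h1, mem_centralizer_of_comm h2⟩

/-- A good pair. -/
structure GP (p r : ℕ) (u d : G) (X : Subgroup G) : Prop extends Ctx p G where
  hr : 3 ≤ r
  hu : orderOf u = 2
  hmax : ∀ v : G, orderOf v = 2 → ∀ A : Subgroup G, IsElementaryAbelian p A →
    (∀ a ∈ A, Commute a v) → Nat.card A ≤ p ^ r
  hX : IsElementaryAbelian p X
  hXc : Nat.card X = p ^ r
  hXu : ∀ x ∈ X, Commute x u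
  hdX : d ∈ X
  hd : orderOf d = p
  hdmax : ∀ A : Subgroup G, IsElementaryAbelian p A → (∀ a ∈ A, Commute a u) → Nat.card A = p ^ r →
    ∀ x ∈ A, x ≠ 1 → Nat.card (Oc 2 u ⊓ centralizer ({x} : Set G) : Subgroup G) ≤ Nat.card (TT u d)

/-- `|X : C_X(y)| ≤ p` when `X` acts on `y` modulo the central `⟨d⟩`. -/
theorem card_le_of_comm_mem [Finite G] {p : ℕ} [hp : Fact p.Prime] {X : Subgroup G} {d y : G} (hd : orderOf d = p)
    (hXd : ∀ x ∈ X, Commute x d) (hXy : ∀ x ∈ X, x * y * x⁻¹ * y⁻¹ ∈ zpowers d) :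
    Nat.card X ≤ Nat.card (X ⊓ centralizer ({y} : Set G) : Subgroup G) * p := by
  have hcz : ∀ x ∈ X, ∀ t ∈ zpowers d, x * t * x⁻¹ = t := by
    rintro x hx _ ⟨k, rfl⟩
    exact comm_iff_conj.mp ((hXd x hx).zpow_right k)
  let f : ↥X →* ↥(zpowers d) :=
    { toFun := fun x => ⟨x * y * (x : G)⁻¹ * y⁻¹, hXy x x.2⟩
      map_one' := by apply Subtype.ext; simp
      map_mul' := by
        intro a b
        apply Subtype.ext
        have h1 := hcz a a.2 _ (hXy b b.2)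
        have h2 : (a * b : ↥X).1 * y * ((a * b : ↥X).1)⁻¹ * y⁻¹ =
            (a.1 * (b.1 * y * b.1⁻¹ * y⁻¹) * a.1⁻¹) * (a.1 * y * a.1⁻¹ * y⁻¹) := by
          simp only [MulMemClass.coe_mul]
          group
        have hc : (b.1 * y * b.1⁻¹ * y⁻¹) * (a.1 * y * a.1⁻¹ * y⁻¹) =
            (a.1 * y * a.1⁻¹ * y⁻¹) * (b.1 * y * b.1⁻¹ * y⁻¹) := by
          obtain ⟨k, hk⟩ := hXy b b.2
          obtain ⟨l, hl⟩ := hXy a a.2
          replace hk : d ^ k = _ := hk
          replace hl : d ^ l = _ := hl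
          rw [← hk, ← hl, ← zpow_add, ← zpow_add, add_comm]
        simp only [MulMemClass.mk_mul_mk]
        rw [h2, h1, hc] }
  have hker : f.ker = (X ⊓ centralizer ({y} : Set G)).subgroupOf X := by
    ext x
    rw [MonoidHom.mem_ker, mem_subgroupOf]
    constructor
    · intro h
      have h1 : (x : G) * y * (x : G)⁻¹ * y⁻¹ = 1 := congrArg Subtype.val h
      refine ⟨x.2, mem_centralizer_of_comm ?_⟩
      rw [mul_inv_eq_one] at h1
      exact comm_iff_conj.mpr h1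
    · rintro ⟨-, h⟩
      apply Subtype.ext
      have h1 := comm_iff_conj.mp (comm_of_mem_centralizer h)
      show (x : G) * y * (x : G)⁻¹ * y⁻¹ = 1
      rw [h1]; simp
  have hcard := Subgroup.card_mul_index f.ker
  rw [Subgroup.index_ker, hker, Nat.card_congr (subgroupOfEquivOfLe
    (inf_le_left : X ⊓ centralizer ({y} : Set G) ≤ X)).toEquiv] at hcard
  rw [← hcard]
  apply Nat.mul_le_mul_left
  have h3 : Nat.card f.range ≤ Nat.card (zpowers d) := Subgroup.card_le_card_group _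
  rwa [Nat.card_zpowers, hd] at h3

theorem isEA_zpowers {p : ℕ} {y : G} (hy : y ^ p = 1) : IsElementaryAbelian p (zpowers y) := by
  refine ⟨inferInstance, ?_⟩
  rintro _ ⟨k, rfl⟩
  show (y ^ k) ^ p = 1
  rw [← zpow_natCast, ← zpow_mul, mul_comm, zpow_mul, zpow_natCast, hy, one_zpow]

/-- A rank two subgroup from two independent elements. -/
theorem rank_two_of_indep [Finite G] {p : ℕ} [hp : Fact p.Prime] {a b : G} (ha : a ^ p = 1) (ha1 : a ≠ 1) (hb : b ^ p = 1) (hab : Commute a b) (hbn : b ∉ zpowers a) :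
    IsElementaryAbelian p (zpowers a ⊔ zpowers b) ∧ p ^ 2 ≤ Nat.card (zpowers a ⊔ zpowers b : Subgroup G) := by
  have hc : ∀ t ∈ zpowers a, Commute t b := by
    rintro _ ⟨k, rfl⟩
    exact hab.zpow_left k
  refine ⟨isEA_sup (isEA_zpowers ha) hc hb, ?_⟩
  rw [card_sup_zpowers' hc hb hbn, Nat.card_zpowers, orderOf_eq_of_pow ha1 ha, sq]

theorem comm_of_mem_rank_two {a b x w : G} (hx : x ∈ zpowers a ⊔ zpowers b) (hab : Commute a b) (ha : Commute w a) (hb : Commute w b) :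
    Commute w x := by
  have hc : ∀ t ∈ zpowers a, Commute t b := by
    rintro _ ⟨k, rfl⟩
    exact hab.zpow_left k
  obtain ⟨t, ht, k, rfl⟩ := (mem_sup_zpowers_iff hc).mp hx
  obtain ⟨l, rfl⟩ := ht
  exact (ha.zpow_right l).mul_right (hb.zpow_right k)

section GPsec

variable [Finite G] {p r : ℕ} [hp : Fact p.Prime] {u d : G} {X : Subgroup G} (gp : GP p r u d X)
include gp

theorem GP.hu2 : u ^ 2 = 1 := by
  have := pow_orderOf_eq_one u
  rwa [gp.hu] at this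

theorem GP.d_pow : d ^ p = 1 := by
  have := pow_orderOf_eq_one d
  rwa [gp.hd] at this

theorem GP.d_ne : d ≠ 1 := by
  intro h
  have := gp.hd
  rw [h, orderOf_one] at this
  exact hp.out.one_lt.ne this

theorem GP.d_u : Commute d u := gp.hXu d gp.hdX

theorem GP.two_ne : (2 : ℕ) ≠ p := fun h => gp.hp2 h.symm

/-- The basic contradiction of a good pair: a rank two group of points whose centralizers in `J`
contain `T`. -/
theorem GP.two_points {D₁ : Subgroup G} (hD₁ : IsElementaryAbelian p D₁) (hc : p ^ 2 ≤ Nat.card D₁)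
    (hpts : ∀ x ∈ D₁, x ≠ 1 → (∃ A : Subgroup G, IsElementaryAbelian p A ∧ (∀ a ∈ A, Commute a u) ∧
      Nat.card A = p ^ r ∧ x ∈ A) ∧ ∀ w ∈ TT u d, Commute w x) : False := by
  haveI : Fact (Nat.Prime 2) := ⟨Nat.prime_two⟩
  have hdu := gp.d_u
  have hD₁u : ∀ x ∈ D₁, Commute x u := by
    intro x hx
    by_cases hx1 : x = 1
    · rw [hx1]; exact Commute.one_left u
    · obtain ⟨⟨A, -, hAu, -, hxA⟩, -⟩ := hpts x hx hx1
      exact hAu x hxA
  have hJ : ¬ p ∣ Nat.card (Oc 2 u) := not_dvd_of_isP gp.two_ne (Oc_isP 2 u)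
  have hall : ∀ y ∈ Oc 2 u, Commute d y := by
    intro y₀ hy₀
    by_contra hm
    obtain ⟨b, hb, hb1, y, hyJ, hby, hdy⟩ := exists_moved_point hD₁ hc hJ
      (fun a ha y hy => Oc_conj (hD₁u a ha) hy) hy₀ hm
    obtain ⟨⟨A, hA, hAu, hAc, hbA⟩, hT⟩ := hpts b hb hb1
    have hle : TT u d ≤ Oc 2 u ⊓ centralizer ({b} : Set G) := by
      intro w hw
      exact ⟨hw.1, mem_centralizer_of_comm (hT w hw)⟩
    have hcard := gp.hdmax A hA hAu hAc b hbA hb1
    have heq : TT u d = Oc 2 u ⊓ centralizer ({b} : Set G) :=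
      Subgroup.eq_of_le_of_card_ge hle hcard
    have hy : y ∈ TT u d := by
      rw [heq]
      exact ⟨hyJ, mem_centralizer_of_comm hby.symm⟩
    exact hdy (mem_TT.mp hy).2.symm
  have := eq_one_of_trivial_Oc gp.loc2 gp.hu hdu (by
    rw [gp.hd]; exact ((Nat.coprime_primes hp.out Nat.prime_two).mpr gp.hp2)) hall
  exact gp.d_ne this

/-- **Claim A**: elements of order `p` of `C_P(u)` lie in `⟨d⟩`. -/
theorem GP.claimA {y : G} (hyP : y ∈ Oc p d) (hyu : Commute y u) (hyp : y ^ p = 1) : y ∈ zpowers d := by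
  haveI : Fact (Nat.Prime 2) := ⟨Nat.prime_two⟩
  by_contra hyd
  have hdP : d ∈ Oc p d := self_mem_Oc gp.hd
  have hdu := gp.d_u
  let S : Subgroup G := Oc p d ⊓ centralizer ({u} : Set G)
  have hSp : IsPGroup p S := (Oc_isP p d).to_le inf_le_left
  have hXp : IsPGroup p X := Cfsg.Agent.Lib.Coprime.GenerationE.isPGroup_of_isElementaryAbelian gp.hX
  have hXd : ∀ x ∈ X, Commute x d := fun x hx => isEA_comm gp.hX hx gp.hdX
  have hXS : ∀ x ∈ X, ∀ w ∈ S, x * w * x⁻¹ ∈ S := by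
    rintro x hx w ⟨hw1, hw2⟩
    refine ⟨Oc_conj (hXd x hx) hw1, mem_centralizer_of_comm ?_⟩
    have h1 := gp.hXu x hx
    have h2 := comm_of_mem_centralizer hw2
    exact ((h1.mul_left h2).mul_left h1.inv_left)
  let R : Subgroup G := S ⊔ X
  have hRn : R ≤ normalizer (S : Set G) := sup_le
    (le_normalizer_of (fun a ha w hw => mul_mem (mul_mem ha hw) (inv_mem ha))) (le_normalizer_of hXS)
  have hRp : IsPGroup p R := IsPGroup.to_sup_of_normal_left' hSp hXp (le_normalizer_of hXS)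
  have hRd : ∀ r ∈ R, Commute r d := by
    intro r hr
    have hle : R ≤ centralizer ({d} : Set G) := sup_le
      ((inf_le_left : S ≤ Oc p d).trans (Oc_le p d))
      (fun x hx => mem_centralizer_of_comm (hXd x hx))
    exact comm_of_mem_centralizer (hle hr)
  have hS'n : (S.subgroupOf R).Normal := by
    rw [normal_subgroupOf_iff_le_normalizer (le_sup_left : S ≤ R)]
    exact hRn
  have hdS : d ∈ S := ⟨hdP, mem_centralizer_of_comm hdu⟩
  have hyS : y ∈ S := ⟨hyP, mem_centralizer_of_comm hyu⟩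
  let dR : ↥R := ⟨d, mem_sup_left hdS⟩
  let yR : ↥R := ⟨y, mem_sup_left hyS⟩
  have hnc : ¬ IsCyclic ↥(S.subgroupOf R) := by
    apply not_isCyclic_of_indep (p := p) (a := ⟨dR, by rw [mem_subgroupOf]; exact hdS⟩)
      (b := ⟨yR, by rw [mem_subgroupOf]; exact hyS⟩)
    · rw [Subgroup.orderOf_mk, Subgroup.orderOf_mk]; exact gp.hd
    · apply Subtype.ext
      apply Subtype.ext
      simpa [yR] using hyp
    · rintro ⟨k, hk⟩
      apply hyd
      refine ⟨k, ?_⟩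
      have := congrArg (fun t : ↥(S.subgroupOf R) => ((t : ↥R) : G)) hk
      simpa [dR, yR] using this
  obtain ⟨A, hAS, hAn, hAe, hAc⟩ :=
    Cfsg.Agent.Lib.PGroup.NormalRank.exists_normal_rank_two gp.hp2 hRp (S.subgroupOf R) hnc
  let M : Subgroup ↥R := zpowers dR
  have hMn : M.Normal := by
    constructor
    rintro _ ⟨k, rfl⟩ g
    refine ⟨k, ?_⟩
    have hc : Commute g dR := Subtype.ext (hRd g g.2)
    have : g * (dR ^ k) * g⁻¹ = dR ^ k := by
      rw [comm_iff_conj.mp (hc.zpow_right k)]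
    simp only [this]
  have hAM : ¬ A ≤ M := by
    intro hle
    have h1 : Nat.card A ≤ Nat.card M := Subgroup.card_le_of_le hle
    have h2 : Nat.card M = p := by
      rw [Nat.card_zpowers, Subgroup.orderOf_mk]; exact gp.hd
    rw [hAc, h2] at h1
    have := hp.out.one_lt
    nlinarith
  obtain ⟨e, heA, heM, -, hec⟩ := Cfsg.Agent.Lib.PGroup.Critical.exists_mem_central_mod hRp M A hAM
  have hes : ((e : ↥R) : G) ∈ S := by
    have := hAS heA
    rwa [mem_subgroupOf] at this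
  set y' : G := (e : G) with hy'
  have hy'p : y' ^ p = 1 := by
    have := hAe.2 e heA
    have h2 := congrArg Subtype.val this
    simpa using h2
  have hy'd : y' ∉ zpowers d := by
    rintro ⟨k, hk⟩
    apply heM
    refine ⟨k, ?_⟩
    apply Subtype.ext
    simpa [dR] using hk
  have hy'X : ∀ x ∈ X, x * y' * x⁻¹ * y'⁻¹ ∈ zpowers d := by
    intro x hx
    have h1 := hec ⟨x, mem_sup_right hx⟩
    obtain ⟨k, hk⟩ := h1
    have h2 := congrArg Subtype.val hk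
    replace h2 : d ^ k = y' * x * y'⁻¹ * x⁻¹ := by
      simpa [dR, commutatorElement_def] using h2
    refine ⟨-k, ?_⟩
    show d ^ (-k) = _
    rw [zpow_neg, h2]
    group
  have hy'P : y' ∈ Oc p d := hes.1
  have hy'u : Commute y' u := comm_of_mem_centralizer hes.2
  have hy'1 : y' ≠ 1 := fun h => hy'd (h ▸ one_mem _)
  -- the rank `r` group containing `d` and `y'`
  have hA₁ : ∃ A₁ : Subgroup G, IsElementaryAbelian p A₁ ∧ (∀ a ∈ A₁, Commute a u) ∧
      Nat.card A₁ = p ^ r ∧ d ∈ A₁ ∧ y' ∈ A₁ := by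
    by_cases hy'X' : y' ∈ X
    · exact ⟨X, gp.hX, gp.hXu, gp.hXc, gp.hdX, hy'X'⟩
    · set X₁ : Subgroup G := X ⊓ centralizer ({y'} : Set G) with hX₁
      have hle := card_le_of_comm_mem (p := p) (X := X) (y := y') gp.hd hXd hy'X
      have hc₁ : ∀ a ∈ X₁, Commute a y' := fun a ha => comm_of_mem_centralizer ha.2
      have hy'X₁ : y' ∉ X₁ := fun h => hy'X' h.1
      have hE := isEA_sup (isEA_mono gp.hX (inf_le_left : X₁ ≤ X)) hc₁ hy'p
      have hcard := card_sup_zpowers' hc₁ hy'p hy'X₁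
      have hcu : ∀ a ∈ (X₁ ⊔ zpowers y' : Subgroup G), Commute a u := by
        intro a ha
        obtain ⟨b, hb, k, rfl⟩ := (mem_sup_zpowers_iff hc₁).mp ha
        exact (gp.hXu b hb.1).mul_left (hy'u.zpow_left k)
      refine ⟨X₁ ⊔ zpowers y', hE, hcu, ?_, mem_sup_left ?_, mem_sup_right (mem_zpowers y')⟩
      · apply le_antisymm
        · exact gp.hmax u gp.hu _ hE hcu
        · rw [hcard, ← gp.hXc]; exact hle
      · exact ⟨gp.hdX, mem_centralizer_of_comm (Oc_comm hy'P).symm⟩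
  obtain ⟨A₁, hA₁e, hA₁u, hA₁c, hdA₁, hy'A₁⟩ := hA₁
  have hdy' : Commute d y' := (Oc_comm hy'P).symm
  obtain ⟨hD₁, hD₁c⟩ := rank_two_of_indep gp.d_pow gp.d_ne hy'p hdy' hy'd
  apply gp.two_points hD₁ hD₁c
  intro x hx hx1
  refine ⟨⟨A₁, hA₁e, hA₁u, hA₁c, ?_⟩, fun w hw => ?_⟩
  · exact (sup_le (zpowers_le.mpr hdA₁) (zpowers_le.mpr hy'A₁)) hx
  · have hw' := mem_TT.mp hw
    have hwy := L1 gp.hp2 hdu.symm hy'P hy'u hw'.1 hw'.2
    exact comm_of_mem_rank_two hx hdy' hw'.2 hwy.symm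

/-- **(e)**: elements of `X` centralizing `T` lie in `⟨d⟩`. -/
theorem GP.claimE {x : G} (hx : x ∈ X) (hxT : ∀ w ∈ TT u d, Commute w x) : x ∈ zpowers d := by
  by_contra hxd
  have hdx : Commute d x := isEA_comm gp.hX gp.hdX hx
  obtain ⟨hD₁, hD₁c⟩ := rank_two_of_indep gp.d_pow gp.d_ne (gp.hX.2 x hx) hdx hxd
  apply gp.two_points hD₁ hD₁c
  intro y hy hy1
  refine ⟨⟨X, gp.hX, gp.hXu, gp.hXc, ?_⟩, fun w hw => ?_⟩
  · exact (sup_le (zpowers_le.mpr gp.hdX) (zpowers_le.mpr hx)) hy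
  · exact comm_of_mem_rank_two hy hdx (mem_TT.mp hw).2 (hxT w hw)

end GPsec

/-- The subgroup `D`. -/
theorem exists_D [Finite G] {p : ℕ} [hp : Fact p.Prime] (ctx : Ctx p G) {d : G} (hd : orderOf d = p) :
    ∃ D : Subgroup G, D ≤ Oc p d ∧ (∀ y ∈ D, y ^ p = 1) ∧ (∀ g : G, Commute g d → ∀ y ∈ D, g * y * g⁻¹ ∈ D) ∧
      d ∈ D ∧ (∀ g : G, Commute g d → (orderOf g).Coprime p → (∀ y ∈ D, Commute g y) → g = 1) := by
  obtain ⟨C, hCT, hCX, -, -, hCmul, hCfaith, hCself⟩ := exists_crit (q := p) (T := Oc p d)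
    (X := centralizer ({d} : Set G)) (Oc_isP p d)
    (fun x hx y hy => Oc_conj (comm_of_mem_centralizer hx) hy)
  have hch : p ∣ p.choose 2 := Cfsg.Agent.Lib.PGroup.Critical.prime_dvd_choose_two ctx.hp2
  have hmul : ∀ x ∈ C, ∀ y ∈ C, (x * y) ^ p = x ^ p * y ^ p := hCmul p hch
  refine ⟨Cfsg.Agent.Lib.PGroup.NormalRank.omegaSub p C hmul, ?_, ?_, ?_, ?_, ?_⟩
  · rintro y ⟨hy, -⟩
    exact hCT hy
  · rintro y ⟨-, hy⟩
    exact hy
  · rintro g hg y ⟨hy1, hy2⟩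
    refine ⟨hCX g (mem_centralizer_of_comm hg) y hy1, ?_⟩
    show (g * y * g⁻¹) ^ p = 1
    rw [conj_pow, hy2]
    simp
  · have hdO : d ∈ Oc p d := self_mem_Oc hd
    refine ⟨hCself d hdO (fun c hc => (Oc_comm (hCT hc)).symm), ?_⟩
    have := pow_orderOf_eq_one d
    rwa [hd] at this
  · intro g hg hcop hfix
    have h1 := hCfaith g (mem_centralizer_of_comm hg) hcop p dvd_rfl hch
      (fun y hy hy2 => hfix y ⟨hy, hy2⟩)
    exact eq_one_of_trivial_Oc ctx.locp hd hg hcop h1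

end Cfsg.Agent.Lib.KM
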