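import Cfsg.Agent.Lib.KM.DLayer

set_option autoImplicit false
set_option linter.style.haveILetI false
set_option linter.unusedVariables false
set_option linter.unusedSectionVars false

/-!
# Klinger-Mason: the contradiction lemmas
-/

namespace Cfsg.Agent.Lib.KM

open Subgroup Cfsg
open Cfsg.Agent.Lib.Basic.PCore
open scoped commutatorElement

variable {G : Type*} [Group G]

section Ksec

variable [Finite G] {p r : ℕ} [hp : Fact p.Prime] {u d : G} {X D : Subgroup G} (gd : GPD p r u d X D)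
include gd

theorem GPD.pow_pred : p ^ (r - 1) * p = p ^ r := by
  have := gd.hr
  rw [← pow_succ]
  congr 1
  omega

theorem GPD.X_d {x : G} (hx : x ∈ X) : Commute x d := isEA_comm gd.hX hx gd.hdX

theorem GPD.sq_of_inv_fix {x y : G} (hc : Commute x y) (hi : x * y * x⁻¹ = y⁻¹) : y ^ 2 = 1 := by
  rw [comm_iff_conj.mp hc] at hi
  rw [sq]
  nth_rewrite 1 [hi]
  simp

theorem GPD.eq_one_of_fix_inv {x y : G} (hy : y ^ p = 1) (hc : Commute x y) (hi : x * y * x⁻¹ = y⁻¹) : y = 1 :=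
  eq_one_of_sq_of_pow gd.hp2 hy (gd.sq_of_inv_fix hc hi)

/-- `u` fixes nothing outside `⟨d⟩` up to inversion: the fixed inverted element. -/
theorem GPD.fixed_inverted {Y W : Subgroup G} (hYD : Y ≤ D) (hdY : d ∈ Y) (hYu : ∀ y ∈ Y, u * y * u⁻¹ ∈ Y)
    (hWp : IsPGroup p W) (hWd : ∀ x ∈ W, Commute x d) (hWu : ∀ x ∈ W, Commute x u)
    (hWY : ∀ x ∈ W, ∀ y ∈ Y, x * y * x⁻¹ ∈ Y) {y₀ : G} (hy₀ : y₀ ∈ Y) (hy₀d : y₀ ∉ zpowers d) :
    ∃ y' ∈ Y, y' ≠ 1 ∧ u * y' * u⁻¹ = y'⁻¹ ∧ ∀ x ∈ W, Commute x y' := by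
  have hzfix : ∀ g : G, Commute g d → ∀ t ∈ zpowers d, g * t * g⁻¹ ∈ zpowers d := by
    rintro g hg _ ⟨k, rfl⟩
    exact ⟨k, (cz hg k).symm⟩
  obtain ⟨y, hyY, hyd, hyW⟩ := exists_fixed_coset (Y := Y) (Z := zpowers d) (X := W)
    ((Oc_isP p d).to_le (hYD.trans gd.hDP)) hWp (zpowers_le.mpr hdY) hWY
    (fun x hx t ht => hzfix x (hWd x hx) t ht)
    (fun y hy t ht => hzfix y (gd.D_d (hYD hy)) t ht) hy₀ hy₀d
  have hyD := hYD hyY
  obtain ⟨k, hk⟩ := gd.inv_u hyD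
  have hui := gd.ui
  have huu : u * u = 1 := by rw [← sq, gd.hu2]
  set y' := y⁻¹ * (u * y * u⁻¹) with hy'
  have hy'1 : y' = (y ^ 2)⁻¹ * d ^ k := by
    rw [hy', hk, sq]; group
  refine ⟨y', mul_mem (inv_mem hyY) (hYu y hyY), ?_, ?_, ?_⟩
  · intro h1
    rw [hy'1] at h1
    have h2 : y ^ 2 = d ^ k := by
      rw [inv_mul_eq_one] at h1
      exact h1
    apply hyd
    apply mem_of_sq_mem (n := 1) gd.hp2 (by simpa using gd.hDexp y hyD)
    rw [h2]
    exact zpow_mem (mem_zpowers d) k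
  · rw [hy']
    have h1 : u * (y⁻¹ * (u * y * u⁻¹)) * u⁻¹ = (u * y⁻¹ * u⁻¹) * ((u * u) * y * (u⁻¹ * u⁻¹)) := by group
    have h2 : u⁻¹ * u⁻¹ = 1 := by rw [hui, huu]
    rw [h1, huu, h2]
    group
  · intro x hx
    obtain ⟨l, hl⟩ := hyW x hx
    replace hl : d ^ l = x * y * x⁻¹ * y⁻¹ := hl
    have hxy : x * y * x⁻¹ = d ^ l * y := by rw [hl]; group
    have hxu := hWu x hx
    have hxd := hWd x hx
    apply comm_iff_conj.mpr
    have h1 : x * (y⁻¹ * (u * y * u⁻¹)) * x⁻¹ = (x * y * x⁻¹)⁻¹ * (x * u * y * u⁻¹ * x⁻¹) := by group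
    have h2 : x * u * y * u⁻¹ * x⁻¹ = u * (x * y * x⁻¹) * u⁻¹ := by
      rw [hxu.eq]
      have : u⁻¹ * x⁻¹ = x⁻¹ * u⁻¹ := by
        rw [← mul_inv_rev, ← mul_inv_rev, hxu.eq]
      calc u * x * y * u⁻¹ * x⁻¹ = u * x * y * (u⁻¹ * x⁻¹) := by group
        _ = u * x * y * (x⁻¹ * u⁻¹) := by rw [this]
        _ = _ := by group
    rw [hy', h1, h2, hxy]
    have h3 : u * (d ^ l * y) * u⁻¹ = (u * d ^ l * u⁻¹) * (u * y * u⁻¹) := by group
    rw [h3, cz gd.d_u.symm]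
    group

/-- **F8′** -/
theorem GPD.F8 {v : G} (hv : orderOf v = 2) (hvne : v ≠ u) (hvu : Commute v u) (hvd : Commute v d)
    (hvX : ∀ x ∈ X, Commute x v) : False := by
  haveI : Fact (Nat.Prime 2) := ⟨Nat.prime_two⟩
  have hv2 : v ^ 2 = 1 := by
    have := pow_orderOf_eq_one v
    rwa [hv] at this
  have hui := gd.ui
  have hud := gd.d_u.symm
  have step1 : ∃ y₀ ∈ D, Commute v y₀ ∧ y₀ ∉ zpowers d := by
    by_contra hcon
    push Not at hcon
    have hinv := inv_mod gd.hp2 gd.hd gd.hdD (fun y hy => gd.D_d hy) hv2 hvd (gd.hDinv v hvd)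
      (fun y hy h => hcon y hy h)
    have ht : u * v ∈ gd.N0 := by
      refine ⟨hud.mul_left hvd, fun m hm => ?_⟩
      obtain ⟨i, hi⟩ := gd.inv_u hm
      obtain ⟨j, hj⟩ := hinv m hm
      have h1 : u * v * m * (u * v)⁻¹ = u * (v * m * v⁻¹) * u⁻¹ := by group
      have h2 : u * (m⁻¹ * d ^ j) * u⁻¹ = (u * m * u⁻¹)⁻¹ * (u * d ^ j * u⁻¹) := by group
      rw [h1, hj, h2, hi, cz hud]
      refine ⟨-i + j, ?_⟩
      show d ^ (-i + j) = _
      have h3 : (m⁻¹ * d ^ i)⁻¹ * d ^ j * m⁻¹ = (d ^ i)⁻¹ * (m * d ^ j * m⁻¹) := by group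
      rw [h3, cz (gd.D_d hm), zpow_add, zpow_neg]
    have htP := gd.N0_le ht
    obtain ⟨n, hn⟩ := exists_pow_of_isP (Oc_isP p d) htP
    have ht2 : (u * v) ^ 2 = 1 := by
      rw [hvu.symm.mul_pow, gd.hu2, hv2, one_mul]
    have ht1 := eq_one_of_sq_of_ppow gd.hp2 hn ht2
    apply hvne
    have : v = u⁻¹ := by
      rw [eq_inv_iff_mul_eq_one]
      rw [hvu.eq]
      exact ht1
    rw [this, hui]
  obtain ⟨y₀, hy₀D, hy₀v, hy₀d⟩ := step1
  have hXp : IsPGroup p X := Cfsg.Agent.Lib.Coprime.GenerationE.isPGroup_of_isElementaryAbelian gd.hX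
  obtain ⟨y', ⟨hy'D, hy'v⟩, hy'1, hy'u, hy'X⟩ := gd.fixed_inverted (Y := D ⊓ centralizer ({v} : Set G)) (W := X)
    inf_le_left ⟨gd.hdD, mem_centralizer_of_comm hvd.symm⟩
    (by
      rintro y ⟨hy1, hy2⟩
      refine ⟨gd.hDinv u hud y hy1, mem_centralizer_of_comm ?_⟩
      have h2 := comm_of_mem_centralizer hy2
      exact (hvu.symm.mul_left h2).mul_left hvu.symm.inv_left)
    hXp (fun x hx => gd.X_d hx) gd.hXu
    (by
      rintro x hx y ⟨hy1, hy2⟩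
      refine ⟨gd.hDinv x (gd.X_d hx) y hy1, mem_centralizer_of_comm ?_⟩
      have h2 := comm_of_mem_centralizer hy2
      exact ((hvX x hx).mul_left h2).mul_left (hvX x hx).inv_left)
    ⟨hy₀D, mem_centralizer_of_comm hy₀v.symm⟩ hy₀d
  have hmem := gd.no_ext hv gd.hX hvX gd.hXc hy'X (comm_of_mem_centralizer hy'v) (gd.hDexp y' hy'D)
  have hcomm : Commute u y' := (gd.hXu y' hmem).symm
  exact hy'1 (gd.eq_one_of_fix_inv (gd.hDexp y' hy'D) hcomm hy'u)

/-- Two elements of `D`, one fixed, one inverted by `a`, commute. -/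
theorem GPD.comm_of_inv {a y₁ y₂ : G} (had : Commute a d) (h₁ : y₁ ∈ D) (h₂ : y₂ ∈ D) (hf : Commute a y₁)
    (hi : a * y₂ * a⁻¹ = y₂⁻¹) : Commute y₁ y₂ := by
  obtain ⟨k, hk⟩ := gd.comm_D h₁ h₂
  replace hk : d ^ k = y₁ * y₂ * y₁⁻¹ * y₂⁻¹ := hk
  have hyc : y₁ * y₂ * y₁⁻¹ = d ^ k * y₂ := by rw [hk]; group
  have h1 : a * (y₁ * y₂ * y₁⁻¹ * y₂⁻¹) * a⁻¹ =
      (a * y₁ * a⁻¹) * (a * y₂ * a⁻¹) * (a * y₁ * a⁻¹)⁻¹ * (a * y₂ * a⁻¹)⁻¹ := by group
  rw [← hk, cz had, comm_iff_conj.mp hf, hi, inv_inv] at h1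
  have h2 : y₁ * y₂⁻¹ * y₁⁻¹ = (d ^ k * y₂)⁻¹ := by
    rw [← hyc]; group
  rw [h2] at h1
  have h3 : (d ^ k) ^ 2 = 1 := by
    have h4 : (d ^ k * y₂)⁻¹ * y₂ = (d ^ k)⁻¹ := by
      have h8 : y₂⁻¹ * d ^ (-k) * y₂⁻¹⁻¹ = d ^ (-k) := cz (gd.D_d h₂).inv_left (-k)
      rw [zpow_neg] at h8
      rw [← h8]
      group
    rw [h4] at h1
    rw [sq]
    nth_rewrite 1 [h1]
    simp
  have h5 := gd.dz_cancel h3
  rw [h5, one_mul] at hyc
  exact comm_iff_conj.mpr hyc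

/-- The predicate: an eigenvector in `C_D(F)`. -/
def Eig (D F : Subgroup G) (p : ℕ) (a b : G) : Prop :=
  ∃ y ∈ D, (∀ f ∈ F, Commute f y) ∧ y ≠ 1 ∧ Commute a y ∧ b * y * b⁻¹ = y⁻¹

omit gd in
theorem Eig.conv {F : Subgroup G} {a b : G} (h : Eig D F p a b) : Eig D F p a (a * b) := by
  obtain ⟨y, h1, h2, h3, h4, h5⟩ := h
  refine ⟨y, h1, h2, h3, h4, ?_⟩
  have h6 : (a * b) * y * (a * b)⁻¹ = a * (b * y * b⁻¹) * a⁻¹ := by group
  rw [h6, h5]
  have h7 : a * y⁻¹ * a⁻¹ = (a * y * a⁻¹)⁻¹ := by group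
  rw [h7, comm_iff_conj.mp h4]

/-- Rank-2, the core. -/
theorem GPD.rank2_core {F : Subgroup G} (hFX : F ≤ X) (hFc : Nat.card F = p ^ (r - 1)) {a b : G}
    (ha2 : a ^ 2 = 1) (hb2 : b ^ 2 = 1) (hab : Commute a b) (haF : ∀ f ∈ F, Commute a f) (hbF : ∀ f ∈ F, Commute b f)
    (hau : Commute a u) (hbu : Commute b u) (had : Commute a d) (hbd : Commute b d) (hcu : a * b ≠ u)
    (h₁ : Eig D F p a b) (h₂ : Eig D F p b a) : False := by
  obtain ⟨y₁, hy₁D, hy₁F, hy₁1, hay₁, hby₁⟩ := h₁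
  obtain ⟨y₂, hy₂D, hy₂F, hy₂1, hby₂, hay₂⟩ := h₂
  have hy₁y₂ : Commute y₁ y₂ := gd.comm_of_inv had hy₁D hy₂D hay₁ hay₂
  set c := a * b with hc
  have hcu' : Commute c u := hau.mul_left hbu
  have hcd : Commute c d := had.mul_left hbd
  have hc2 : c ^ 2 = 1 := by rw [hc, hab.mul_pow, ha2, hb2, one_mul]
  have hcy₁ : c * y₁ * c⁻¹ = y₁⁻¹ := by
    have h6 : c * y₁ * c⁻¹ = a * (b * y₁ * b⁻¹) * a⁻¹ := by rw [hc]; group
    rw [h6, hby₁]
    have h7 : a * y₁⁻¹ * a⁻¹ = (a * y₁ * a⁻¹)⁻¹ := by group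
    rw [h7, comm_iff_conj.mp hay₁]
  have hcy₂ : c * y₂ * c⁻¹ = y₂⁻¹ := by
    have h6 : c * y₂ * c⁻¹ = a * (b * y₂ * b⁻¹) * a⁻¹ := by rw [hc]; group
    rw [h6, comm_iff_conj.mp hby₂, hay₂]
  have hu1 := gd.inv_u_of_inv_D hy₁D hcd hcu' hcy₁
  have hu2 := gd.inv_u_of_inv_D hy₂D hcd hcu' hcy₂
  set v := u * c with hv
  have hv2 : v ^ 2 = 1 := by
    rw [hv, hcu'.symm.mul_pow, gd.hu2, hc2, one_mul]
  have hv1 : v ≠ 1 := by
    intro h
    apply hcu
    have h3 : u * c = 1 := h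
    have h4 : u⁻¹ = c := inv_eq_of_mul_eq_one_right h3
    rw [gd.ui] at h4
    exact h4.symm
  have hvo : orderOf v = 2 := orderOf_eq_prime hv2 hv1
  have hvy : ∀ y : G, u * y * u⁻¹ = y⁻¹ → c * y * c⁻¹ = y⁻¹ → Commute v y := by
    intro y h1 h2
    apply comm_iff_conj.mpr
    have h3 : v * y * v⁻¹ = u * (c * y * c⁻¹) * u⁻¹ := by rw [hv]; group
    rw [h3, h2]
    have h4 : u * y⁻¹ * u⁻¹ = (u * y * u⁻¹)⁻¹ := by group
    rw [h4, h1, inv_inv]
  have hvy₁ := hvy y₁ hu1 hcy₁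
  have hvy₂ := hvy y₂ hu2 hcy₂
  have hcF : ∀ f ∈ F, Commute c f := fun f hf => (haF f hf).mul_left (hbF f hf)
  have hFv : ∀ f ∈ F, Commute f v := fun f hf =>
    ((gd.hXu f (hFX hf)).mul_right (hcF f hf).symm)
  have hy₁F' : y₁ ∉ F := by
    intro h
    exact hy₁1 (gd.eq_one_of_fix_inv (gd.hDexp y₁ hy₁D) (hcF y₁ h) hcy₁)
  have hE := isEA_sup (isEA_mono gd.hX hFX) hy₁F (gd.hDexp y₁ hy₁D)
  have hcard := card_sup_zpowers' hy₁F (gd.hDexp y₁ hy₁D) hy₁F'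
  rw [hFc, gd.pow_pred] at hcard
  have hA₁v : ∀ t ∈ (F ⊔ zpowers y₁ : Subgroup G), Commute t v := by
    intro t ht
    obtain ⟨f, hf, k, rfl⟩ := (mem_sup_zpowers_iff hy₁F).mp ht
    exact (hFv f hf).mul_left (hvy₁.symm.zpow_left k)
  have hA₁y₂ : ∀ t ∈ (F ⊔ zpowers y₁ : Subgroup G), Commute t y₂ := by
    intro t ht
    obtain ⟨f, hf, k, rfl⟩ := (mem_sup_zpowers_iff hy₁F).mp ht
    exact (hy₂F f hf).mul_left (hy₁y₂.zpow_left k)
  have hmem := gd.no_ext hvo hE hA₁v hcard hA₁y₂ hvy₂.symm (gd.hDexp y₂ hy₂D)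
  obtain ⟨f, hf, k, hfk⟩ := (mem_sup_zpowers_iff hy₁F).mp hmem
  have hay₂' : Commute a y₂ := by
    rw [hfk]
    exact (haF f hf).mul_right (hay₁.zpow_right k)
  exact hy₂1 (gd.eq_one_of_fix_inv (gd.hDexp y₂ hy₂D) hay₂' hay₂)

/-- An eigenvector from an involution. -/
theorem GPD.eig2 {F : Subgroup G} (hFX : F ≤ X) {a b : G} (ha2 : a ^ 2 = 1) (hb2 : b ^ 2 = 1) (hab : Commute a b)
    (hne : a ≠ b) (ha1 : a ≠ 1) (hb1 : b ≠ 1)
    (haF : ∀ f ∈ F, Commute a f) (hbF : ∀ f ∈ F, Commute b f)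
    (had : Commute a d) (hbd : Commute b d) : Eig D F p a b ∨ Eig D F p b a := by
  haveI : Fact (Nat.Prime 2) := ⟨Nat.prime_two⟩
  have hFp : IsPGroup p F := (Cfsg.Agent.Lib.Coprime.GenerationE.isPGroup_of_isElementaryAbelian gd.hX).to_le hFX
  set c := a * b with hc
  have hcd : Commute c d := had.mul_left hbd
  have hc2 : c ^ 2 = 1 := by rw [hc, hab.mul_pow, ha2, hb2, one_mul]
  have hc1 : c ≠ 1 := by
    intro h
    apply hne
    have h4 : a⁻¹ = b := inv_eq_of_mul_eq_one_right h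
    have h5 : a⁻¹ = a := by rw [inv_eq_iff_mul_eq_one, ← sq, ha2]
    rw [← h4, h5]
  have hco : (orderOf c).Coprime p := gd.ne_one_of_two (orderOf_eq_prime hc2 hc1)
  have hcF : ∀ f ∈ F, Commute c f := fun f hf => (haF f hf).mul_left (hbF f hf)
  have hDp : IsPGroup p D := (Oc_isP p d).to_le gd.hDP
  have hcm : ∃ y ∈ D, ¬ Commute c y := by
    by_contra hcon
    push Not at hcon
    exact hc1 (gd.hDfaith c hcd hco hcon)
  obtain ⟨y₀, hy₀, hy₀c⟩ := hcm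
  obtain ⟨y₁, hy₁, hy₁F, hy₁c⟩ := moved_of_ab hDp hFp hco hcF (gd.hDinv c hcd)
    (fun f hf y hy => gd.hDinv f (gd.X_d (hFX hf)) y hy) hy₀ hy₀c
  set Y : Subgroup G := D ⊓ centralizer (F : Set G) with hY
  have hYmem : ∀ y : G, y ∈ Y ↔ y ∈ D ∧ ∀ f ∈ F, Commute f y := by
    intro y
    constructor
    · rintro ⟨h1, h2⟩
      exact ⟨h1, fun f hf => (mem_centralizer_iff.mp h2 f hf)⟩
    · rintro ⟨h1, h2⟩
      exact ⟨h1, mem_centralizer_iff.mpr (fun f hf => h2 f hf)⟩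
  have hYp : IsPGroup p Y := hDp.to_le inf_le_left
  have hact : ∀ g : G, Commute g d → (∀ f ∈ F, Commute g f) → ∀ y ∈ Y, g * y * g⁻¹ ∈ Y := by
    intro g hgd hgF y hy
    obtain ⟨h1, h2⟩ := (hYmem y).mp hy
    refine (hYmem _).mpr ⟨gd.hDinv g hgd y h1, fun f hf => ?_⟩
    exact ((hgF f hf).symm.mul_right (h2 f hf)).mul_right (hgF f hf).inv_left.symm
  obtain ⟨y, hyY, hy3, hyc⟩ := four_moved ha2 hb2 hab hne ha1 hb1 (not_dvd_of_isP gd.hp2 hYp)
    (hact a had haF) (hact b hbd hbF) ((hYmem y₁).mpr ⟨hy₁, hy₁F⟩) hy₁c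
  have key : ∀ a' b' : G, Commute a' d → (∀ f ∈ F, Commute a' f) → Commute c a' →
      (∀ w : G, Commute a' w → c * w * c⁻¹ = w⁻¹ → b' * w * b'⁻¹ = w⁻¹) →
      Commute a' y → Eig D F p a' b' := by
    intro a' b' ha'd ha'F hca' hb' hay
    have hK : ∀ w ∈ Y ⊓ centralizer ({a'} : Set G), c * w * c⁻¹ ∈ Y ⊓ centralizer ({a'} : Set G) := by
      rintro w ⟨h1, h2⟩
      refine ⟨hact c hcd hcF w h1, mem_centralizer_of_comm ?_⟩
      have h3 := comm_of_mem_centralizer h2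
      exact (hca'.symm.mul_right h3.symm).mul_right hca'.symm.inv_right |>.symm
    obtain ⟨y', ⟨hy'Y, hy'a⟩, hy'o, hy'i⟩ := exists_inverted (K := Y ⊓ centralizer ({a'} : Set G))
      (hYp.to_le inf_le_left) hc2 hK ⟨hyY, mem_centralizer_of_comm hay.symm⟩ hyc
    obtain ⟨hy'D, hy'F⟩ := (hYmem y').mp hy'Y
    have hy'1 : y' ≠ 1 := by
      intro h
      rw [h, orderOf_one] at hy'o
      exact hp.out.one_lt.ne hy'o
    exact ⟨y', hy'D, hy'F, hy'1, (comm_of_mem_centralizer hy'a).symm,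
      hb' y' (comm_of_mem_centralizer hy'a).symm hy'i⟩
  rcases hy3 with h | h | h
  · left
    refine key a b had haF (by rw [hc]; exact (Commute.refl a).mul_left hab.symm) ?_ h
    intro w hw hcw
    have h1 : b * w * b⁻¹ = a⁻¹ * (c * w * c⁻¹) * a := by rw [hc]; group
    rw [h1, hcw]
    have h2 : a⁻¹ * w⁻¹ * a = (a * w * a⁻¹)⁻¹ := by
      rw [comm_iff_conj.mp hw]
      have : a⁻¹ * w⁻¹ * a = (a⁻¹ * w * a)⁻¹ := by group
      rw [this]
      have h3 : a⁻¹ * w * a = w := by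
        have := comm_iff_conj.mp hw.inv_left
        simpa using this
      rw [h3]
    rw [h2, comm_iff_conj.mp hw]
  · right
    refine key b a hbd hbF (by rw [hc]; exact hab.mul_left (Commute.refl b)) ?_ h
    intro w hw hcw
    have h1 : a * w * a⁻¹ = c * (b⁻¹ * w * b) * c⁻¹ := by rw [hc]; group
    have h3 : b⁻¹ * w * b = w := by
      have := comm_iff_conj.mp hw.inv_left
      simpa using this
    rw [h1, h3, hcw]
  · exact absurd h hyc

/-- **Rank-2**. -/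
theorem GPD.rank2 {F : Subgroup G} (hFX : F ≤ X) (hFc : Nat.card F = p ^ (r - 1)) {α β : G}
    (hα2 : α ^ 2 = 1) (hβ2 : β ^ 2 = 1) (hαβ : Commute α β) (hne : α ≠ β) (hα1 : α ≠ 1) (hβ1 : β ≠ 1)
    (hαF : ∀ f ∈ F, Commute α f) (hβF : ∀ f ∈ F, Commute β f)
    (hαu : Commute α u) (hβu : Commute β u) (hαd : Commute α d) (hβd : Commute β d)
    (huα : α ≠ u) (huβ : β ≠ u) (huγ : α * β ≠ u) : False := by
  set γ := α * β with hγ
  have hαi : α * α = 1 := by rw [← sq, hα2]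
  have hβi : β * β = 1 := by rw [← sq, hβ2]
  have hγ2 : γ ^ 2 = 1 := by rw [hγ, hαβ.mul_pow, hα2, hβ2, one_mul]
  have hγ1 : γ ≠ 1 := by
    intro h
    apply hne
    have h4 : α⁻¹ = β := inv_eq_of_mul_eq_one_right h
    have h5 : α⁻¹ = α := by rw [inv_eq_iff_mul_eq_one, hαi]
    rw [← h4, h5]
  have hγF : ∀ f ∈ F, Commute γ f := fun f hf => (hαF f hf).mul_left (hβF f hf)
  have hγu : Commute γ u := hαu.mul_left hβu
  have hγd : Commute γ d := hαd.mul_left hβd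
  have hαγ : Commute α γ := (Commute.refl α).mul_right hαβ
  have hβγ : Commute β γ := hαβ.symm.mul_right (Commute.refl β)
  have hαγe : α * γ = β := by rw [hγ, ← mul_assoc, hαi, one_mul]
  have hγαe : γ * α = β := by rw [← hαγ.eq, hαγe]
  have hβγe : β * γ = α := by
    rw [hγ, ← mul_assoc, ← hαβ.eq, mul_assoc, hβi, mul_one]
  have hγβe : γ * β = α := by rw [← hβγ.eq, hβγe]
  have hβαe : β * α = γ := hαβ.eq.symm
  have hne2 : α ≠ γ := by
    intro h
    apply hβ1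
    have : α * β = α * 1 := by rw [mul_one, ← hγ, ← h]
    exact mul_left_cancel this
  have hne3 : β ≠ γ := by
    intro h
    apply hα1
    have : α * β = 1 * β := by rw [one_mul, ← hγ, ← h]
    exact mul_right_cancel this
  have e1 := gd.eig2 hFX hα2 hβ2 hαβ hne hα1 hβ1 hαF hβF hαd hβd
  have e2 := gd.eig2 hFX hα2 hγ2 hαγ hne2 hα1 hγ1 hαF hγF hαd hγd
  have e3 := gd.eig2 hFX hβ2 hγ2 hβγ hne3 hβ1 hγ1 hβF hγF hβd hγd
  have c1 : Eig D F p α γ → Eig D F p α β := fun h => by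
    have := Eig.conv h; rwa [hαγe] at this
  have c2 : Eig D F p β γ → Eig D F p β α := fun h => by
    have := Eig.conv h; rwa [hβγe] at this
  have c3 : Eig D F p γ β → Eig D F p γ α := fun h => by
    have := Eig.conv h; rwa [hγβe] at this
  have X12 : Eig D F p α β → Eig D F p β α → False := fun h1 h2 =>
    gd.rank2_core hFX hFc hα2 hβ2 hαβ hαF hβF hαu hβu hαd hβd huγ h1 h2
  have X13 : Eig D F p α β → Eig D F p γ α → False := fun h1 h2 =>
    gd.rank2_core hFX hFc hα2 hγ2 hαγ hαF hγF hαu hγu hαd hγd (by rw [hαγe]; exact huβ) (Eig.conv h1) h2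
  have X23 : Eig D F p β α → Eig D F p γ α → False := fun h1 h2 => by
    have h3 : Eig D F p γ β := by
      have := Eig.conv h2; rwa [hγαe] at this
    have h4 : Eig D F p β γ := by
      have := Eig.conv h1; rwa [hβαe] at this
    exact gd.rank2_core hFX hFc hβ2 hγ2 hβγ hβF hγF hβu hγu hβd hγd (by rw [hβγe]; exact huα) h4 h3
  rcases e1 with h1 | h1 <;> rcases e2 with h2 | h2 <;> rcases e3 with h3 | h3
  · exact X12 h1 (c2 h3)
  · exact X13 h1 (c3 h3)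
  · exact X12 h1 (c2 h3)
  · exact X13 h1 h2
  · exact X12 (c1 h2) h1
  · exact X23 h1 (c3 h3)
  · exact X23 h1 h2
  · exact X23 h1 h2

/-- **Kill Lemma**. -/
theorem GPD.kill {B : Subgroup G} (hB : IsElementaryAbelian p B) (hBc : Nat.card B = p ^ (r - 1)) (hdB : d ∈ B)
    {v h lam : G} (hv : orderOf v = 2) (hvB : ∀ b ∈ B, Commute v b) (hh : h ∈ TT u d) (hhB : ∀ b ∈ B, Commute h b)
    (hlamD : lam ∈ D) (hlamB : ∀ b ∈ B, Commute lam b) (hlamv : Commute lam v) (hlamo : orderOf lam = p)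
    (hlamh : h * lam * h⁻¹ = lam⁻¹)
    (hy : ∀ x ∈ B, x ∉ zpowers d → ∃ y ∈ Oc p x, (∀ b ∈ B, Commute y b) ∧ Commute y v ∧ orderOf y = p ∧
      h * y * h⁻¹ = y⁻¹) : False := by
  haveI : Fact (Nat.Prime 2) := ⟨Nat.prime_two⟩
  have hr := gd.hr
  have hlam1 : lam ≠ 1 := by
    intro h1
    rw [h1, orderOf_one] at hlamo
    exact hp.out.one_lt.ne hlamo
  have hlampow : lam ^ p = 1 := by
    rw [← hlamo]; exact pow_orderOf_eq_one lam
  have hcard2 : p ^ 2 ≤ Nat.card B := by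
    rw [hBc]
    exact Nat.pow_le_pow_right hp.out.pos (by omega)
  have hvd : Commute v d := hvB d hdB
  have hlamP : lam ∈ Oc p d := gd.hDP hlamD
  have case_d : ∀ w ∈ Oc 2 v, Commute w d → Commute w lam := fun w hw hwd =>
    (L1 gd.hp2 hvd hlamP hlamv hw hwd).symm
  have hBv : ∀ b ∈ B, Commute b v := fun b hb => (hvB b hb).symm
  have hJ : ¬ p ∣ Nat.card (Oc 2 v) := not_dvd_of_isP gd.two_ne (Oc_isP 2 v)
  have hall : ∀ w ∈ Oc 2 v, Commute lam w := by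
    intro w₀ hw₀
    by_contra hm
    obtain ⟨x, hxB, hx1, w, hw, hxw, hlamw⟩ := exists_moved_point hB hcard2 hJ
      (fun a ha y hy => Oc_conj (hBv a ha) hy) hw₀ hm
    apply hlamw
    have hxp : x ^ p = 1 := hB.2 x hxB
    have hxo : orderOf x = p := orderOf_eq_of_pow hx1 hxp
    by_cases hxd : x ∈ zpowers d
    · have hdx : d ∈ zpowers x := mem_zpowers_of_zpow gd.d_pow hxd hx1
      obtain ⟨k, hk⟩ := hdx
      replace hk : x ^ k = d := hk
      have hwd : Commute w d := by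
        rw [← hk]
        exact hxw.symm.zpow_right k
      exact (case_d w hw hwd).symm
    · obtain ⟨y, hyx, hyB, hyv, hyo, hyi⟩ := hy x hxB hxd
      have hypow : y ^ p = 1 := by
        rw [← hyo]; exact pow_orderOf_eq_one y
      have hyd : Commute y d := hyB d hdB
      have hyP : y ∈ Oc p d := gd.mem_P_of_inv hh hyd (k := 1) (by simpa using hypow) hyi
      have hyu : u * y * u⁻¹ = y⁻¹ := gd.inv_u_of_inv_T hh hyP hyo hyi
      have hyN : y ∈ gd.N0 := gd.mem_N0_of_inv hyP (k := 1) (by simpa using hypow) hyu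
      obtain ⟨k, hk⟩ := hyN.2 lam hlamD
      replace hk : d ^ k = y * lam * y⁻¹ * lam⁻¹ := hk
      have hlamx : Commute lam x := hlamB x hxB
      have hvx : Commute v x := hvB x hxB
      have hdxmem : d ^ k ∈ Oc p x := by
        rw [hk]
        have : y * lam * y⁻¹ * lam⁻¹ = y * (lam * y⁻¹ * lam⁻¹) := by group
        rw [this]
        exact mul_mem hyx (Oc_conj hlamx (inv_mem hyx))
      by_cases he : d ^ k = 1
      · -- `y` and `lam` commute
        have hylam : Commute y lam := by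
          rw [he] at hk
          have h1 : y * lam * y⁻¹ = lam := by
            have := hk.symm
            rwa [mul_inv_eq_one] at this
          exact comm_iff_conj.mpr h1
        have hlamB' : lam ∉ B := by
          intro hm
          exact hlam1 (gd.eq_one_of_fix_inv hlampow (hhB lam hm) hlamh)
        have hc₁ : ∀ b ∈ B, Commute b lam := fun b hb => (hlamB b hb).symm
        have hE := isEA_sup hB hc₁ hlampow
        have hcard := card_sup_zpowers' hc₁ hlampow hlamB'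
        rw [hBc, gd.pow_pred] at hcard
        have hAv : ∀ t ∈ (B ⊔ zpowers lam : Subgroup G), Commute t v := by
          intro t ht
          obtain ⟨f, hf, k, rfl⟩ := (mem_sup_zpowers_iff hc₁).mp ht
          exact (hBv f hf).mul_left (hlamv.zpow_left k)
        have hAy : ∀ t ∈ (B ⊔ zpowers lam : Subgroup G), Commute t y := by
          intro t ht
          obtain ⟨f, hf, k, rfl⟩ := (mem_sup_zpowers_iff hc₁).mp ht
          exact (hyB f hf).symm.mul_left (hylam.symm.zpow_left k)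
        have hmem := gd.no_ext hv hE hAv hcard hAy hyv hypow
        obtain ⟨β, hβ, n, hn⟩ := (mem_sup_zpowers_iff hc₁).mp hmem
        -- apply `h`
        have h1 : h * y * h⁻¹ = β * lam⁻¹ ^ n := by
          rw [hn]
          have h2 : h * (β * lam ^ n) * h⁻¹ = (h * β * h⁻¹) * (h * lam * h⁻¹) ^ n := by
            rw [conj_zpow]; group
          rw [h2, comm_iff_conj.mp (hhB β hβ), hlamh]
        rw [hyi, hn, inv_zpow] at h1
        have h3 : (β * lam ^ n)⁻¹ = β⁻¹ * (lam ^ n)⁻¹ := by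
          rw [mul_inv_rev]
          exact (((hc₁ β hβ).zpow_right n).inv_inv).eq.symm
        rw [h3] at h1
        have h4 : β⁻¹ = β := mul_right_cancel h1
        have h5 : β ^ 2 = 1 := by
          rw [sq]
          nth_rewrite 1 [← h4]
          simp
        have h6 : β = 1 := eq_one_of_sq_of_pow gd.hp2 (hB.2 β hβ) h5
        rw [h6, one_mul] at hn
        have hy1 : y ≠ 1 := by
          intro h7
          rw [h7, orderOf_one] at hyo
          exact hp.out.one_lt.ne hyo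
        have hlamy : lam ∈ zpowers y := mem_zpowers_of_zpow hlampow ⟨n, hn.symm⟩ hy1
        have hlamOc : lam ∈ Oc p x := (zpowers_le.mpr hyx) hlamy
        exact L1 gd.hp2 hvx hlamOc hlamv hw hxw.symm
      · -- `d ∈ P_x`
        have hdz : d ∈ zpowers (d ^ k) := mem_zpowers_of_zpow gd.d_pow ⟨k, rfl⟩ he
        have hdO : d ∈ Oc p x := (zpowers_le.mpr hdxmem) hdz
        have hdw : Commute d w := L1 gd.hp2 hvx hdO (hBv d hdB) hw hxw.symm
        exact (case_d w hw hdw.symm).symm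
  have hfinal := Cfsg.Agent.Lib.KM.eq_one_of_trivial_Oc gd.loc2 hv hlamv (by
    rw [hlamo]; exact ((Nat.coprime_primes hp.out Nat.prime_two).mpr gd.hp2)) hall
  exact hlam1 hfinal

end Ksec

end Cfsg.Agent.Lib.KM
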