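import Cfsg.Agent.Lib.KM.Final

set_option autoImplicit false
set_option linter.style.haveILetI false
set_option linter.unusedVariables false
set_option linter.unusedSectionVars false

/-!
# Klinger-Mason: assembling the proof
-/

namespace Cfsg.Agent.Lib.KM

open Subgroup Cfsg
open Cfsg.Agent.Lib.Basic.PCore
open scoped commutatorElement

variable {G : Type*} [Group G]

theorem exists_max_nat {S : Set ℕ} (hne : S.Nonempty) {b : ℕ} (hb : ∀ n ∈ S, n ≤ b) : ∃ r ∈ S, ∀ n ∈ S, n ≤ r := by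
  have hbdd : BddAbove S := ⟨b, hb⟩
  exact ⟨sSup S, Nat.sSup_mem hne hbdd, fun n hn => le_csSup hbdd hn⟩

/-- **The rank bound in centralizers of involutions.** -/
theorem no_rank_three [Finite G] {p : ℕ} [hp : Fact p.Prime] (ctx : Ctx p G) (v₀ : G) (hv₀ : orderOf v₀ = 2) (A₀ : Subgroup G)
    (hA₀ : IsElementaryAbelian p A₀) (hA₀v : ∀ a ∈ A₀, Commute a v₀) : Nat.card A₀ ≤ p ^ 2 := by
  classical
  haveI : Fact (Nat.Prime 2) := ⟨Nat.prime_two⟩
  by_contra hcon
  push Not at hcon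
  have hpp := hp.out.one_lt
  let N : Set ℕ := {n | ∃ (v : G) (A : Subgroup G), orderOf v = 2 ∧ IsElementaryAbelian p A ∧ (∀ a ∈ A, Commute a v) ∧
    Nat.card A = p ^ n}
  have hcardp : ∀ A : Subgroup G, IsElementaryAbelian p A → ∃ n, Nat.card A = p ^ n := fun A hA =>
    IsPGroup.iff_card.mp (Cfsg.Agent.Lib.Coprime.GenerationE.isPGroup_of_isElementaryAbelian hA)
  obtain ⟨n₀, hn₀⟩ := hcardp A₀ hA₀
  have hNne : N.Nonempty := ⟨n₀, v₀, A₀, hv₀, hA₀, hA₀v, hn₀⟩
  have hNb : ∀ n ∈ N, n ≤ Nat.card G := by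
    rintro n ⟨v, A, -, -, -, hc⟩
    have h1 : n < p ^ n := Nat.lt_pow_self hpp
    have h2 : Nat.card A ≤ Nat.card G := Subgroup.card_le_card_group A
    omega
  obtain ⟨r, ⟨u, X₀, hu, hX₀, hX₀u, hX₀c⟩, hrmax⟩ := exists_max_nat hNne hNb
  have hr3 : 3 ≤ r := by
    have h1 : n₀ ≤ r := hrmax n₀ ⟨v₀, A₀, hv₀, hA₀, hA₀v, hn₀⟩
    have h2 : 3 ≤ n₀ := by
      by_contra h3
      have h4 : n₀ ≤ 2 := by omega
      have h5 : p ^ n₀ ≤ p ^ 2 := Nat.pow_le_pow_right hp.out.pos h4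
      omega
    omega
  have hmax : ∀ v : G, orderOf v = 2 → ∀ A : Subgroup G, IsElementaryAbelian p A → (∀ a ∈ A, Commute a v) →
      Nat.card A ≤ p ^ r := by
    intro v hv A hA hAv
    obtain ⟨n, hn⟩ := hcardp A hA
    rw [hn]
    exact Nat.pow_le_pow_right hp.out.pos (hrmax n ⟨v, A, hv, hA, hAv, hn⟩)
  -- maximize the centralizer in `J`
  let S : Set ℕ := {m | ∃ (A : Subgroup G) (x : G), IsElementaryAbelian p A ∧ (∀ a ∈ A, Commute a u) ∧
    Nat.card A = p ^ r ∧ x ∈ A ∧ x ≠ 1 ∧ Nat.card (Oc 2 u ⊓ centralizer ({x} : Set G) : Subgroup G) = m}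
  have hSne : S.Nonempty := by
    have hnt : X₀ ≠ ⊥ := by
      rintro rfl
      have h1 : Nat.card (⊥ : Subgroup G) = 1 := by simp
      rw [hX₀c] at h1
      have h2 : p ^ r > 1 := Nat.one_lt_pow (by omega) hpp
      omega
    obtain ⟨⟨x, hx⟩, hx1⟩ := (Subgroup.ne_bot_iff_exists_ne_one).mp hnt
    exact ⟨_, X₀, x, hX₀, hX₀u, hX₀c, hx, fun h => hx1 (Subtype.ext h), rfl⟩
  have hSb : ∀ m ∈ S, m ≤ Nat.card G := by
    rintro m ⟨A, x, -, -, -, -, -, rfl⟩
    exact Subgroup.card_le_card_group _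
  obtain ⟨m, ⟨X, d, hX, hXu, hXc, hdX, hd1, hmdef⟩, hmmax⟩ := exists_max_nat hSne hSb
  have hgp : GP p r u d X :=
    { hp2 := ctx.hp2
      locp := ctx.locp
      loc2 := ctx.loc2
      hr := hr3
      hu := hu
      hmax := hmax
      hX := hX
      hXc := hXc
      hXu := hXu
      hdX := hdX
      hd := orderOf_eq_of_pow hd1 (hX.2 d hdX)
      hdmax := by
        intro A hA hAu hAc x hx hx1
        have h1 := hmmax _ ⟨A, x, hA, hAu, hAc, hx, hx1, rfl⟩
        rw [← hmdef] at h1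
        exact h1 }
  obtain ⟨D, hDP, hDexp, hDinv, hdD, hDfaith⟩ := exists_D ctx hgp.hd
  have hgd : GPD p r u d X D :=
    { toGP := hgp
      hDP := hDP
      hDexp := hDexp
      hDinv := hDinv
      hdD := hdD
      hDfaith := hDfaith }
  have hXT : ∀ x ∈ X, ∀ y ∈ TT u d, x * y * x⁻¹ ∈ TT u d := by
    intro x hx y hy
    obtain ⟨h1, h2⟩ := mem_TT.mp hy
    have hxd : Commute x d := hgd.X_d hx
    exact mem_TT.mpr ⟨Oc_conj (hXu x hx) h1, (hxd.mul_left h2).mul_left hxd.inv_left⟩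
  have hTp : IsPGroup 2 (TT u d) := (Oc_isP 2 u).to_le inf_le_left
  obtain ⟨C, hCT, hCX, hCcomm, hCsq, -, hCf, -⟩ := exists_crit (q := 2) hTp hXT
  have hgc : GPC p r u d X D C :=
    { toGPD := hgd
      hCT := hCT
      hCX := hCX
      hCcomm := hCcomm
      hCsq := hCsq
      hCmove := by
        intro x hx hmv
        by_contra hc
        push Not at hc
        obtain ⟨w, hw, hm⟩ := hmv
        have hco : (orderOf x).Coprime 2 := by
          have h1 : orderOf x ∣ p := orderOf_dvd_of_pow_eq_one (hX.2 x hx)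
          exact Nat.Coprime.coprime_dvd_left h1 ((Nat.coprime_primes hp.out Nat.prime_two).mpr ctx.hp2)
        exact hm (hCf x hx hco 4 (by norm_num) (by decide) (fun y hy _ => hc y hy) w hw) }
  exact hgc.final

/-- **Klinger-Mason**, abstract form. -/
theorem two_local_rank [Finite G] {p : ℕ} [hp : Fact p.Prime] (ctx : Ctx p G) {Q E : Subgroup G} (hQ : IsPGroup 2 Q) (hQne : Q ≠ ⊥)
    (hE : IsElementaryAbelian p E) (hEQ : ∀ e ∈ E, ∀ y ∈ Q, e * y * e⁻¹ ∈ Q) : Nat.card E ≤ p ^ 2 := by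
  classical
  haveI : Fact (Nat.Prime 2) := ⟨Nat.prime_two⟩
  by_contra hcon
  push Not at hcon
  have hpp := hp.out.one_lt
  have hodd := ctx.hp2
  have hmain := no_rank_three ctx
  -- `Ω₁ Z(Q)`
  let Z : Subgroup G :=
    { carrier := {w | w ∈ Q ∧ w ^ 2 = 1 ∧ ∀ c ∈ Q, Commute c w}
      one_mem' := ⟨one_mem _, one_pow 2, fun c _ => Commute.one_right c⟩
      mul_mem' := by
        rintro a b ⟨ha1, ha2, ha3⟩ ⟨hb1, hb2, hb3⟩
        refine ⟨mul_mem ha1 hb1, ?_, fun c hc => (ha3 c hc).mul_right (hb3 c hc)⟩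
        rw [(hb3 a ha1).mul_pow, ha2, hb2, one_mul]
      inv_mem' := by
        rintro a ⟨ha1, ha2, ha3⟩
        refine ⟨inv_mem ha1, by rw [inv_pow, ha2, inv_one], fun c hc => (ha3 c hc).inv_right⟩ }
  have hZp : IsPGroup 2 Z := hQ.to_le (fun w hw => hw.1)
  have hZne : ∃ h ∈ Z, h ≠ 1 := by
    haveI : Nontrivial ↥Q := by
      obtain ⟨⟨x, hx⟩, hx1⟩ := (Subgroup.ne_bot_iff_exists_ne_one).mp hQne
      exact ⟨⟨⟨x, hx⟩, 1, hx1⟩⟩
    haveI hcen : Nontrivial (center ↥Q) := hQ.center_nontrivial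
    have hdvd : 2 ∣ Nat.card (center ↥Q) := by
      obtain ⟨n, hn⟩ := IsPGroup.iff_card.mp (hQ.to_subgroup (center ↥Q))
      have h1 : 1 < Nat.card (center ↥Q) := Finite.one_lt_card
      rw [hn] at h1 ⊢
      apply dvd_pow_self
      rintro rfl
      simp at h1
    obtain ⟨w, hw⟩ := exists_prime_orderOf_dvd_card' 2 hdvd
    have hw2 : ((w : ↥Q) : G) ^ 2 = 1 := by
      have h1 : w ^ 2 = 1 := by rw [← hw]; exact pow_orderOf_eq_one w
      have h2 := congrArg (fun t : center ↥Q => ((t : ↥Q) : G)) h1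
      simpa using h2
    have hw1 : ((w : ↥Q) : G) ≠ 1 := by
      intro h
      have h1 : w = 1 := Subtype.ext (Subtype.ext h)
      rw [h1, orderOf_one] at hw
      omega
    refine ⟨_, ⟨(w : ↥Q).2, hw2, fun c hc => ?_⟩, hw1⟩
    have h3 := (mem_center_iff.mp w.2) ⟨c, hc⟩
    exact congrArg Subtype.val h3
  have hEz : ∀ e ∈ E, ∀ w ∈ Z, e * w * e⁻¹ ∈ Z := by
    rintro e he w ⟨hw1, hw2, hw3⟩
    refine ⟨hEQ e he w hw1, by rw [conj_pow, hw2]; simp, fun c hc => ?_⟩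
    have he' : e⁻¹ ∈ E := inv_mem he
    have h1 := hw3 _ (hEQ e⁻¹ he' c hc)
    have h3 := comm_iff_conj.mp h1
    apply comm_iff_conj.mpr
    have h4 : c * (e * w * e⁻¹) * c⁻¹ = e * ((e⁻¹ * c * e⁻¹⁻¹) * w * (e⁻¹ * c * e⁻¹⁻¹)⁻¹) * e⁻¹ := by group
    rw [h4, h3]
  obtain ⟨h₀, hh₀, hh₀1⟩ := hZne
  by_cases hall : ∀ e ∈ E, ∀ w ∈ Z, Commute e w
  · have := hmain h₀ (orderOf_eq_prime hh₀.2.1 hh₀1) E hE (fun e he => (hall e he h₀ hh₀))
    omega
  · push Not at hall
    obtain ⟨g, hg, y₀, hy₀, hm⟩ := hall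
    have hZnd : ¬ p ∣ Nat.card Z := not_dvd_of_isP (Ne.symm hodd) hZp
    obtain ⟨B, hBE, hBi, h, hhZ, hBh, hgh⟩ := exists_moved hE hZnd hEz hy₀ hm
    have hB : IsElementaryAbelian p B := isEA_mono hE hBE
    have hh1 : h ≠ 1 := fun h1 => hgh (h1 ▸ Commute.one_right g)
    have hho : orderOf h = 2 := orderOf_eq_prime hhZ.2.1 hh1
    have hcardE : Nat.card E = Nat.card B * B.relIndex E :=
      Cfsg.Agent.Lib.PGroup.Critical.card_eq_mul_relIndex hBE
    have hB2 : Nat.card B ≤ p ^ 2 := hmain h hho B hB hBh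
    have hBge : p ^ 2 ≤ Nat.card B := by
      obtain ⟨n, hn⟩ := IsPGroup.iff_card.mp (Cfsg.Agent.Lib.Coprime.GenerationE.isPGroup_of_isElementaryAbelian hB)
      have h1 : Nat.card E ≤ Nat.card B * p := by
        rw [hcardE]; exact Nat.mul_le_mul_left _ hBi
      have h2 : p < Nat.card B := by
        have h3 : p ^ 2 < Nat.card B * p := lt_of_lt_of_le hcon h1
        rw [sq] at h3
        exact Nat.lt_of_mul_lt_mul_right h3
      rw [hn] at h2 ⊢
      apply Nat.pow_le_pow_right hp.out.pos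
      by_contra h4
      have h5 : n ≤ 1 := by omega
      have h6 : p ^ n ≤ p ^ 1 := Nat.pow_le_pow_right hp.out.pos h5
      rw [pow_one] at h6
      omega
    have hBeq : Nat.card B = p ^ 2 := le_antisymm hB2 hBge
    obtain ⟨β, hβe⟩ : ∃ β, β = g * h * g⁻¹ := ⟨_, rfl⟩
    have hβZ : β ∈ Z := hβe ▸ hEz g hg h hhZ
    have hβ2 : β ^ 2 = 1 := hβZ.2.1
    have hα2 : h ^ 2 = 1 := hhZ.2.1
    have hβ1 : β ≠ 1 := by
      intro h1
      apply hh1
      rw [hβe] at h1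
      have h2 : g * h = g := by rwa [mul_inv_eq_one] at h1
      exact mul_eq_left.mp h2
    have hβh : Commute β h := hhZ.2.2 β hβZ.1
    have hne : β ≠ h := by
      intro h1
      apply hgh
      rw [hβe] at h1
      exact comm_iff_conj.mpr h1
    have hBβ : ∀ b ∈ B, Commute β b := by
      intro b hb
      rw [hβe]
      have hgb : Commute g b := isEA_comm hE hg (hBE hb)
      exact (comm_conj hgb (hBh b hb)).symm
    have hBnt : B ≠ ⊥ := by
      rintro rfl
      have h1 : Nat.card (⊥ : Subgroup G) = 1 := by simp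
      rw [hBeq] at h1
      have h2 : p ^ 2 > 1 := Nat.one_lt_pow (by omega) hpp
      omega
    obtain ⟨⟨x, hxB⟩, hx1'⟩ := (Subgroup.ne_bot_iff_exists_ne_one).mp hBnt
    have hx1 : x ≠ 1 := fun h1 => hx1' (Subtype.ext h1)
    have hxo : orderOf x = p := orderOf_eq_of_pow hx1 (hB.2 x hxB)
    have hBp : IsPGroup p B := Cfsg.Agent.Lib.Coprime.GenerationE.isPGroup_of_isElementaryAbelian hB
    have hBx : ∀ b ∈ B, Commute b x := fun b hb => isEA_comm hB hb hxB
    have hco2 : ∀ t : G, t ^ 2 = 1 → t ≠ 1 → (orderOf t).Coprime p := by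
      intro t ht ht1
      rw [orderOf_eq_prime ht ht1]
      exact (Nat.coprime_primes Nat.prime_two hp.out).mpr (Ne.symm hodd)
    obtain ⟨y₁, hy₁, hy₁m⟩ := moved_Oc ctx.locp hxo hβ1 (hco2 β hβ2 hβ1) (hBβ x hxB) hBp hBx hBβ
    have hKp : IsPGroup p (Oc p x ⊓ centralizer (B : Set G) : Subgroup G) := (Oc_isP p x).to_le inf_le_left
    have hKact : ∀ t : G, (∀ b ∈ B, Commute t b) → ∀ y ∈ Oc p x ⊓ centralizer (B : Set G),
        t * y * t⁻¹ ∈ Oc p x ⊓ centralizer (B : Set G) :=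
      fun t ht y hy => act_cent (fun w hw => Oc_conj (ht x hxB) hw) ht hy
    have hhB : ∀ b ∈ B, Commute h b := fun b hb => (hBh b hb).symm
    obtain ⟨y, hyK, hy3, hyβ⟩ := four_moved hβ2 hα2 hβh hne hβ1 hh1 (not_dvd_of_isP hodd hKp) (hKact β hBβ) (hKact h hhB)
      hy₁ hy₁m
    have hw : ∃ w : G, orderOf w = 2 ∧ Commute β w ∧ (∀ b ∈ B, Commute b w) ∧ Commute w y := by
      rcases hy3 with h1 | h1 | h1
      · exact absurd h1 hyβ
      · exact ⟨h, hho, hβh, hBh, h1⟩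
      · have h2 : (β * h) ^ 2 = 1 := by rw [hβh.mul_pow, hβ2, hα2, one_mul]
        have h3 : β * h ≠ 1 := by
          intro h4
          apply hne
          have h5 : β = h⁻¹ := eq_inv_of_mul_eq_one_left h4
          have h6 : h⁻¹ = h := by
            rw [inv_eq_iff_mul_eq_one, ← sq, hα2]
          rw [h5, h6]
        exact ⟨β * h, orderOf_eq_prime h2 h3, (Commute.refl β).mul_right hβh,
          fun b hb => (hBβ b hb).symm.mul_right (hBh b hb), h1⟩
    obtain ⟨w, hwo, hβw, hBw, hwy⟩ := hw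
    obtain ⟨y', ⟨hy'K, hy'w⟩, hy'o, hy'i⟩ := exists_inverted (K := (Oc p x ⊓ centralizer (B : Set G)) ⊓ centralizer ({w} : Set G))
      (hKp.to_le inf_le_left) hβ2 (fun z hz => act_comm (hKact β hBβ) hβw hz)
      ⟨hyK, mem_centralizer_of_comm hwy.symm⟩ hyβ
    obtain ⟨hy'O, hy'B⟩ := mem_cent_iff.mp hy'K
    have hy'p : y' ^ p = 1 := by
      rw [← hy'o]; exact pow_orderOf_eq_one y'
    have hy'1 : y' ≠ 1 := by
      intro h1
      rw [h1, orderOf_one] at hy'o
      exact hpp.ne hy'o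
    have hy'nB : y' ∉ B := by
      intro h1
      have h2 : Commute β y' := hBβ y' h1
      rw [comm_iff_conj.mp h2] at hy'i
      have h3 : y' ^ 2 = 1 := by
        rw [sq]
        nth_rewrite 1 [hy'i]
        simp
      exact hy'1 (eq_one_of_sq_of_pow hodd hy'p h3)
    have hE' := isEA_sup hB hy'B hy'p
    have hcard' := card_sup_zpowers' hy'B hy'p hy'nB
    have hvw : ∀ t ∈ (B ⊔ zpowers y' : Subgroup G), Commute t w := by
      intro t ht
      obtain ⟨f, hf, k, rfl⟩ := (mem_sup_zpowers_iff hy'B).mp ht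
      exact (hBw f hf).mul_left ((comm_of_mem_centralizer hy'w).zpow_left k)
    have := hmain w hwo _ hE' hvw
    rw [hcard', hBeq] at this
    have h2 : p ^ 2 > 0 := by positivity
    nlinarith

/-- **Klinger-Mason.** -/
theorem klinger_mason [Finite G] {p : ℕ} [hp : Fact p.Prime] (hp2 : p ≠ 2) (hGp : IsOfLocalCharacteristic p G)
    (hG2 : IsCharacteristicTwoType G) : TwoLocalPRankLE p 2 G := by
  intro H hH A hAc hAp
  obtain ⟨Q, hQ, hne, rfl⟩ := hH
  have ctx : Ctx p G := ⟨hp2, locChar_of_local hGp, locChar_two hG2⟩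
  let N := normalizer (Q : Set G)
  have hinj : Function.Injective N.subtype := Subgroup.subtype_injective N
  have hcard : Nat.card (A.map N.subtype) = Nat.card A :=
    (Nat.card_congr (A.equivMapOfInjective _ hinj).toEquiv).symm
  rw [← hcard]
  apply two_local_rank ctx hQ hne
  · refine ⟨⟨⟨?_⟩⟩, ?_⟩
    · rintro ⟨_, a, ha, rfl⟩ ⟨_, b, hb, rfl⟩
      apply Subtype.ext
      have := hAc.is_comm.comm ⟨a, ha⟩ ⟨b, hb⟩
      have h2 := congrArg (fun t : ↥A => ((t : ↥N) : G)) this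
      simpa using h2
    · rintro _ ⟨a, ha, rfl⟩
      have := hAp a ha
      have h2 := congrArg Subtype.val this
      simpa using h2
  · rintro _ ⟨a, ha, rfl⟩ y hy
    exact (mem_normalizer_iff.mp a.2 y).mp hy

end Cfsg.Agent.Lib.KM
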