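import Cfsg.Agent.Lib.KM.Struct

set_option autoImplicit false
set_option linter.style.haveILetI false
set_option linter.unusedVariables false
set_option linter.unusedSectionVars false

/-!
# Klinger-Mason: `p = 3` and the quaternion data
-/

namespace Cfsg.Agent.Lib.KM

open Subgroup Cfsg
open Cfsg.Agent.Lib.Basic.PCore
open scoped commutatorElement

variable {G : Type*} [Group G]

/-- Anticommutation from squares. -/
theorem anti_of_sq {u a b : G} (hu2 : u * u = 1) (hua : Commute u a) (hub : Commute u b) (ha : a * a = u) (hb : b * b = u)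
    (h : (a⁻¹ * b) * (a⁻¹ * b) = u) : a * b = u * (b * a) := by
  have hai : a⁻¹ = a * u := by
    rw [inv_eq_iff_mul_eq_one, ← mul_assoc, ha, hu2]
  have hbi : b⁻¹ = b * u := by
    rw [inv_eq_iff_mul_eq_one, ← mul_assoc, hb, hu2]
  rw [hai] at h
  have h1 : (a * u * b) * (a * u * b) = (a * b * a * b) * (u * u) := by
    have e1 : a * u * b = a * b * u := by
      rw [mul_assoc, hub.eq, mul_assoc]
    rw [e1]
    have e2 : a * b * u * (a * b * u) = a * b * (u * (a * b)) * u := by group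
    rw [e2, (hua.mul_right hub).eq]
    group
  rw [h1, hu2, mul_one] at h
  -- `a b a b = u`, so `a b a = u b⁻¹ = b`
  have h2 : a * b * a = u * b⁻¹ := by
    rw [eq_mul_inv_iff_mul_eq]
    exact h
  rw [hbi] at h2
  have h3 : u * (b * u) = b := by
    rw [← mul_assoc, hub.eq, mul_assoc, hu2, mul_one]
  rw [h3] at h2
  calc a * b = a * b * a * a⁻¹ := by group
    _ = b * a⁻¹ := by rw [h2]
    _ = b * (a * u) := by rw [hai]
    _ = b * a * u := by group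
    _ = u * (b * a) := ((hub.mul_right hua).eq).symm

section Csec

variable [Finite G] {p r : ℕ} [hp : Fact p.Prime] {u d : G} {X D C : Subgroup G} (gc : GPC p r u d X D C)
include gc

theorem GPC.uu : u * u = 1 := by rw [← sq, gc.hu2]

theorem GPC.center_conj {w x : G} (hw : ∀ c ∈ C, Commute c w) (hx : x ∈ X) : ∀ c ∈ C, Commute c (x * w * x⁻¹) := by
  intro c hc
  have hx' : x⁻¹ ∈ X := inv_mem hx
  have h1 := hw _ (gc.hCX x⁻¹ hx' c hc)
  have h3 := comm_iff_conj.mp h1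
  apply comm_iff_conj.mpr
  have h4 : c * (x * w * x⁻¹) * c⁻¹ = x * ((x⁻¹ * c * x⁻¹⁻¹) * w * (x⁻¹ * c * x⁻¹⁻¹)⁻¹) * x⁻¹ := by group
  rw [h4, h3]

/-- `X` acts trivially on `Z(C)`. -/
theorem GPC.center_fix {w x : G} (hw : w ∈ C) (hwc : ∀ c ∈ C, Commute c w) (hx : x ∈ X) : Commute x w := by
  haveI : Fact (Nat.Prime 2) := ⟨Nat.prime_two⟩
  have hxp : x ^ p = 1 := gc.hX.2 x hx
  have key : ∀ n : ℕ, ∀ w ∈ C, (∀ c ∈ C, Commute c w) → w ^ (2 ^ n) = 1 → Commute x w := by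
    intro n
    induction n with
    | zero =>
      intro w _ _ h
      have : w = 1 := by simpa using h
      rw [this]; exact Commute.one_right x
    | succ n ih =>
      intro w hw hwc h
      have h2 := (gc.hCsq w hw)
      have hsq : Commute x (w ^ 2) := by
        apply ih (w ^ 2) h2.1 (fun c hc => (h2.2 c hc).symm)
        rw [← pow_mul, ← pow_succ']
        exact h
      have hb : x * w * x⁻¹ ∈ C := gc.hCX x hx w hw
      have hbc := gc.center_conj hwc hx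
      set b := x * w * x⁻¹ with hbdef
      set i := w⁻¹ * b with hi
      have hiC : i ∈ C := mul_mem (inv_mem hw) hb
      have hic : ∀ c ∈ C, Commute c i := fun c hc => (hwc c hc).inv_right.mul_right (hbc c hc)
      have hwb : Commute w b := hbc w hw
      have hi2 : i ^ 2 = 1 := by
        rw [hi, (hwb.inv_left).mul_pow, inv_pow]
        have h3 : b ^ 2 = w ^ 2 := by
          rw [hbdef, conj_pow]
          exact comm_iff_conj.mp hsq
        rw [h3]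
        simp
      have hix : Commute x i := by
        rcases gc.omega hiC hi2 hic with h4 | h4
        · rw [h4]; exact Commute.one_right x
        · rw [h4]; exact gc.hXu x hx
      have hbe : x * w * x⁻¹ = w * i := (mul_inv_cancel_left w b).symm
      have hip := pow_of_diff hxp hix hbe
      have hi1 := eq_one_of_sq_of_pow gc.hp2 hip hi2
      rw [hi1, mul_one] at hbe
      exact comm_iff_conj.mpr hbe
  obtain ⟨n, hn⟩ := exists_pow_of_isP ((Oc_isP 2 u).to_le ((gc.hCT).trans inf_le_left)) hw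
  exact key n w hw hwc hn

/-- **Lemma Q**: `u` is the unique involution in `C_C(F)`. -/
theorem GPC.lemmaQ {F : Subgroup G} (hFX : F ≤ X) (hFc : Nat.card F = p ^ (r - 1)) (hdF : d ∈ F) {z₀ : G} (hz₀ : z₀ ∈ X)
    (htop : F ⊔ zpowers z₀ = X) {y : G} (hy : y ∈ C) (hyF : ∀ f ∈ F, Commute f y) (hy2 : y ^ 2 = 1) :
    y = 1 ∨ y = u := by
  by_contra hcon
  push Not at hcon
  obtain ⟨hy1, hyu⟩ := hcon
  have hyo : orderOf y = 2 := orderOf_eq_prime hy2 hy1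
  have hyT := gc.hCT hy
  by_cases hA : ∃ a' ∈ C, (∀ f ∈ F, Commute f a') ∧ ¬ Commute a' y
  · obtain ⟨a', ha', ha'F, ha'y⟩ := hA
    obtain ⟨heC, hec⟩ := gc.hCcomm a' ha' y hy
    set e := a' * y * a'⁻¹ * y⁻¹ with he
    have hyC : a' * y * a'⁻¹ = e * y := by rw [he]; group
    have hey : Commute e y := hec y hy
    have he2 : e ^ 2 = 1 := by
      have h1 : (a' * y * a'⁻¹) ^ 2 = 1 := by rw [conj_pow, hy2]; simp
      rw [hyC, hey.mul_pow, hy2, mul_one] at h1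
      exact h1
    rcases gc.omega heC he2 (fun c hc => (hec c hc).symm) with h | h
    · apply ha'y
      rw [h, one_mul] at hyC
      exact comm_iff_conj.mpr hyC
    · rw [h] at hyC
      exact gc.kill1 hFX hFc hdF hyo hyT (fun f hf => (hyF f hf).symm) hyu (gc.hCT ha')
        (fun f hf => (ha'F f hf).symm) hyC
  · push Not at hA
    by_cases hzy : Commute z₀ y
    · have hc : ∀ a ∈ F, Commute a z₀ := fun a ha => isEA_comm gc.hX (hFX ha) hz₀
      refine gc.F8 hyo hyu (gc.C_u hy) (gc.C_d hy) (fun x hx => ?_)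
      rw [← htop] at hx
      obtain ⟨a, ha, k, rfl⟩ := (mem_sup_zpowers_iff hc).mp hx
      exact (hyF a ha).mul_left (hzy.zpow_left k)
    · have h1 := hA _ (gc.hCX z₀ hz₀ y hy) (fun f hf =>
        (comm_conj (isEA_comm gc.hX hz₀ (hFX hf)) (hyF f hf)))
      exact gc.rank2_z hFX hFc hy hy2 hyF hz₀ hzy h1.symm

/-- **sqU** -/
theorem GPC.sqU {F : Subgroup G} (hFX : F ≤ X)
    (hQ : ∀ y ∈ C, (∀ f ∈ F, Commute f y) → y ^ 2 = 1 → y = 1 ∨ y = u) {z x : G} (hz : z ∈ X) (hx : x ∈ C)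
    (hxF : ∀ f ∈ F, Commute f x) (hm : ¬ Commute z x) : (x⁻¹ * (z * x * z⁻¹)) ^ 2 = u := by
  have hzp : z ^ p = 1 := gc.hX.2 z hz
  set b := z * x * z⁻¹ with hb
  have hbC : b ∈ C := gc.hCX z hz x hx
  have hbF : ∀ f ∈ F, Commute f b := fun f hf => comm_conj (isEA_comm gc.hX hz (hFX hf)) (hxF f hf)
  obtain ⟨heC, hec⟩ := gc.hCcomm b hbC x⁻¹ (inv_mem hx)
  set e := b * x⁻¹ * b⁻¹ * x⁻¹⁻¹ with he
  obtain ⟨hx2C, hx2c⟩ := gc.hCsq x hx
  have hzx2 : Commute z (x ^ 2) := gc.center_fix hx2C (fun c hc => (hx2c c hc).symm) hz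
  have hb2 : b ^ 2 = x ^ 2 := by
    rw [hb, conj_pow]
    exact comm_iff_conj.mp hzx2
  have hbx : b * x⁻¹ = e * (x⁻¹ * b) := by rw [he]; group
  have hexi : Commute e x⁻¹ := hec _ (inv_mem hx)
  have heb : Commute e b := hec _ hbC
  have hi2 : (x⁻¹ * b) ^ 2 = e := by
    have h1 : (x⁻¹ * b) ^ 2 = x⁻¹ * (b * x⁻¹) * b := by rw [sq]; group
    rw [h1, hbx]
    have h2 : x⁻¹ * (e * (x⁻¹ * b)) * b = (x⁻¹ * e) * x⁻¹ * (b * b) := by group
    rw [h2, hexi.symm.eq, ← sq b, hb2, sq x]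
    group
  have he2 : e ^ 2 = 1 := by
    have h1 : b * (b * x⁻¹ * b⁻¹) * b⁻¹ * x = e * e := by
      have h3 : b * x⁻¹ * b⁻¹ = e * x⁻¹ := by rw [he]; group
      rw [h3]
      have h4 : b * (e * x⁻¹) * b⁻¹ * x = (b * e) * x⁻¹ * b⁻¹ * x := by group
      rw [h4, heb.symm.eq, he]
      group
    have h2 : b * (b * x⁻¹ * b⁻¹) * b⁻¹ * x = (b ^ 2) * x⁻¹ * (b ^ 2)⁻¹ * x := by
      rw [sq]; group
    rw [h2, hb2, sq x] at h1
    rw [sq, ← h1]
    group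
  rcases gc.omega heC he2 (fun c hc => (hec c hc).symm) with h | h
  · exfalso
    rw [h] at hi2
    have hiC : x⁻¹ * b ∈ C := mul_mem (inv_mem hx) hbC
    have hiF : ∀ f ∈ F, Commute f (x⁻¹ * b) := fun f hf => (hxF f hf).inv_right.mul_right (hbF f hf)
    have hzi : Commute z (x⁻¹ * b) := by
      rcases hQ _ hiC hiF hi2 with h4 | h4
      · rw [h4]; exact Commute.one_right z
      · rw [h4]; exact gc.hXu z hz
    have hbe : z * x * z⁻¹ = x * (x⁻¹ * b) := by rw [hb]; group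
    have hip := pow_of_diff hzp hzi hbe
    have hi1 := eq_one_of_sq_of_pow gc.hp2 hip hi2
    rw [hi1, mul_one] at hbe
    exact hm (comm_iff_conj.mpr hbe)
  · rw [hi2, h]

/-- **`p = 3`, quaternion data.** -/
theorem GPC.q8 {F : Subgroup G} (hFX : F ≤ X)
    (hQ : ∀ y ∈ C, (∀ f ∈ F, Commute f y) → y ^ 2 = 1 → y = 1 ∨ y = u) {z x : G} (hz : z ∈ X) (hx : x ∈ C)
    (hxF : ∀ f ∈ F, Commute f x) (hm : ¬ Commute z x) :
    p = 3 ∧ ∃ i j k : G, i ∈ C ∧ j ∈ C ∧ k ∈ C ∧ (∀ f ∈ F, Commute f i) ∧ (∀ f ∈ F, Commute f j) ∧ (∀ f ∈ F, Commute f k) ∧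
      i * i = u ∧ j * j = u ∧ k * k = u ∧ i * j = u * (j * i) ∧ i * j * k = 1 ∧ z * i * z⁻¹ = j ∧ z * j * z⁻¹ = k ∧
      z * k * z⁻¹ = i ∧ ¬ Commute z i := by
  haveI : Fact (Nat.Prime 2) := ⟨Nat.prime_two⟩
  have hzp : z ^ p = 1 := gc.hX.2 z hz
  have hzu : Commute z u := gc.hXu z hz
  let τ : G →* G := (MulAut.conj z).toMonoidHom
  have hτ : ∀ w, τ w = z * w * z⁻¹ := fun w => rfl
  have hτu : τ u = u := by rw [hτ]; exact comm_iff_conj.mp hzu
  have hτC : ∀ w ∈ C, τ w ∈ C := fun w hw => gc.hCX z hz w hw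
  have hτF : ∀ w, (∀ f ∈ F, Commute f w) → ∀ f ∈ F, Commute f (τ w) := fun w hw f hf => by
    rw [hτ]
    exact comm_conj (isEA_comm gc.hX hz (hFX hf)) (hw f hf)
  have huu := gc.uu
  obtain ⟨i₀, hi₀⟩ : ∃ i₀, i₀ = x⁻¹ * τ x := ⟨_, rfl⟩
  have hi₀' : i₀ = x⁻¹ * (z * x * z⁻¹) := hi₀
  have hi₀C : i₀ ∈ C := by
    rw [hi₀]; exact mul_mem (inv_mem hx) (hτC x hx)
  have hi₀F : ∀ f ∈ F, Commute f i₀ := fun f hf => by
    rw [hi₀]; exact (hxF f hf).inv_right.mul_right (hτF x hxF f hf)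
  have hs0 : i₀ * i₀ = u := by
    have := gc.sqU hFX hQ hz hx hxF hm
    rw [sq, ← hi₀'] at this
    exact this
  have hCu : ∀ w ∈ C, Commute u w := fun w hw => (gc.C_u hw).symm
  have hi₀m : ¬ Commute z i₀ := by
    intro h
    have hbe : z * x * z⁻¹ = x * i₀ := by rw [hi₀']; group
    have hip := pow_of_diff hzp h hbe
    have h4 : i₀ ^ (2 ^ 2) = 1 := by
      have : i₀ ^ (2 ^ 2) = (i₀ * i₀) * (i₀ * i₀) := by norm_num [pow_succ]; group
      rw [this, hs0, huu]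
    have h5 : i₀ = 1 := eq_one_of_ppow_of_qpow (m := 1) gc.hp2 (by simpa using hip) h4
    rw [h5, one_mul] at hs0
    exact gc.u_ne hs0.symm
  have hz2X : z ^ 2 ∈ X := pow_mem hz 2
  have hz2m : ¬ Commute (z ^ 2) i₀ := by
    intro h
    apply hi₀m
    have h3 : z ^ 2 ∈ centralizer ({i₀} : Set G) := mem_centralizer_of_comm h
    exact comm_of_mem_centralizer (mem_of_sq_mem (n := 1) gc.hp2 (by simpa using hzp) h3)
  obtain ⟨i₁, hi₁⟩ : ∃ i₁, i₁ = τ i₀ := ⟨_, rfl⟩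
  obtain ⟨i₂, hi₂⟩ : ∃ i₂, i₂ = τ i₁ := ⟨_, rfl⟩
  obtain ⟨i₃, hi₃⟩ : ∃ i₃, i₃ = τ i₂ := ⟨_, rfl⟩
  have hi₁C : i₁ ∈ C := hi₁ ▸ hτC _ hi₀C
  have hi₂C : i₂ ∈ C := hi₂ ▸ hτC _ hi₁C
  have hi₃C : i₃ ∈ C := hi₃ ▸ hτC _ hi₂C
  have hi₁F : ∀ f ∈ F, Commute f i₁ := hi₁ ▸ hτF _ hi₀F
  have hi₂F : ∀ f ∈ F, Commute f i₂ := hi₂ ▸ hτF _ hi₁F
  have hs1 : i₁ * i₁ = u := by rw [hi₁, ← map_mul, hs0, hτu]
  have hs2 : i₂ * i₂ = u := by rw [hi₂, ← map_mul, hs1, hτu]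
  have ha01 : i₀ * i₁ = u * (i₁ * i₀) := by
    apply anti_of_sq huu (hCu _ hi₀C) (hCu _ hi₁C) hs0 hs1
    have := gc.sqU hFX hQ hz hi₀C hi₀F hi₀m
    rw [sq] at this
    have h6 : z * i₀ * z⁻¹ = i₁ := by rw [hi₁, hτ]
    rwa [h6] at this
  have ha02 : i₀ * i₂ = u * (i₂ * i₀) := by
    apply anti_of_sq huu (hCu _ hi₀C) (hCu _ hi₂C) hs0 hs2
    have := gc.sqU hFX hQ hz2X hi₀C hi₀F hz2m
    rw [sq] at this
    have h6 : z ^ 2 * i₀ * (z ^ 2)⁻¹ = i₂ := by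
      rw [hi₂, hi₁, hτ, hτ, sq]; group
    rwa [h6] at this
  have ha12 : i₁ * i₂ = u * (i₂ * i₁) := by
    have := congrArg τ ha01
    rw [map_mul, map_mul, map_mul, hτu, ← hi₁, ← hi₂] at this
    exact this
  have hu0 := hCu _ hi₀C
  have hu1 := hCu _ hi₁C
  have hu2 := hCu _ hi₂C
  -- `t = i₀ i₁`
  have ht2 : (i₀ * i₁) * (i₀ * i₁) = u := by
    have h1 : (i₀ * i₁) * (i₀ * i₁) = i₀ * (i₁ * i₀) * i₁ := by group
    have h2 : i₁ * i₀ = u * (i₀ * i₁) := by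
      rw [ha01, ← mul_assoc, huu, one_mul]
    rw [h1, h2]
    have h3 : i₀ * (u * (i₀ * i₁)) * i₁ = (i₀ * u) * i₀ * (i₁ * i₁) := by group
    rw [h3, hu0.symm.eq, hs1]
    have h4 : u * i₀ * i₀ * u = u * (i₀ * i₀) * u := by group
    rw [h4, hs0, huu, one_mul]
  have htc : Commute (i₀ * i₁) i₂ := by
    show i₀ * i₁ * i₂ = i₂ * (i₀ * i₁)
    calc i₀ * i₁ * i₂ = i₀ * (i₁ * i₂) := by group
      _ = i₀ * (u * (i₂ * i₁)) := by rw [ha12]
      _ = (i₀ * u) * (i₂ * i₁) := by group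
      _ = (u * i₀) * (i₂ * i₁) := by rw [hu0.symm.eq]
      _ = u * ((i₀ * i₂) * i₁) := by group
      _ = u * (u * (i₂ * i₀) * i₁) := by rw [ha02]
      _ = (u * u) * (i₂ * (i₀ * i₁)) := by group
      _ = i₂ * (i₀ * i₁) := by rw [huu, one_mul]
  obtain ⟨w, hw⟩ : ∃ w, w = i₀ * i₁ * i₂ := ⟨_, rfl⟩
  have hw2 : w ^ 2 = 1 := by
    rw [hw, htc.mul_pow, sq, sq, ht2, hs2, huu]
  have hwC : w ∈ C := hw ▸ mul_mem (mul_mem hi₀C hi₁C) hi₂C
  have hwF : ∀ f ∈ F, Commute f w := fun f hf => by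
    rw [hw]; exact ((hi₀F f hf).mul_right (hi₁F f hf)).mul_right (hi₂F f hf)
  have hτw : τ w = w := by
    rcases hQ w hwC hwF hw2 with h | h
    · rw [h, map_one]
    · rw [h, hτu]
  have hτw' : τ w = i₁ * i₂ * i₃ := by
    rw [hw, map_mul, map_mul, ← hi₁, ← hi₂, ← hi₃]
  have hsc : Commute i₀ (i₁ * i₂) := by
    show i₀ * (i₁ * i₂) = i₁ * i₂ * i₀
    calc i₀ * (i₁ * i₂) = (i₀ * i₁) * i₂ := by group
      _ = (u * (i₁ * i₀)) * i₂ := by rw [ha01]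
      _ = (u * i₁) * (i₀ * i₂) := by group
      _ = (u * i₁) * (u * (i₂ * i₀)) := by rw [ha02]
      _ = (i₁ * u) * (u * (i₂ * i₀)) := by rw [hu1.eq]
      _ = i₁ * (u * u) * (i₂ * i₀) := by group
      _ = i₁ * i₂ * i₀ := by rw [huu]; group
  have hi3 : i₃ = i₀ := by
    have h1 : (i₁ * i₂) * i₃ = (i₁ * i₂) * i₀ := by
      rw [← hτw', hτw, hw, ← hsc.eq, mul_assoc]
    exact mul_left_cancel h1
  have hz3 : z ^ 3 * i₀ * (z ^ 3)⁻¹ = i₃ := by
    rw [hi₃, hi₂, hi₁, hτ, hτ, hτ]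
    simp only [pow_succ, pow_zero, one_mul]
    group
  have hz3c : Commute (z ^ 3) i₀ := by
    apply comm_iff_conj.mpr
    rw [hz3, hi3]
  have hp3 : p = 3 := by
    by_contra hne
    have hne3 : z ^ 3 ≠ 1 := by
      intro h3
      have h4 : orderOf z ∣ 3 := orderOf_dvd_of_pow_eq_one h3
      have h5 : orderOf z ∣ p := orderOf_dvd_of_pow_eq_one hzp
      have hc : Nat.Coprime 3 p := (Nat.coprime_primes Nat.prime_three hp.out).mpr (Ne.symm hne)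
      have h6 := Nat.eq_one_of_dvd_coprimes hc h4 h5
      have h7 : z = 1 := orderOf_eq_one_iff.mp h6
      exact hm (h7 ▸ Commute.one_left x)
    have hmem : z ∈ zpowers (z ^ 3) := mem_zpowers_of_zpow hzp ⟨3, by simp⟩ hne3
    obtain ⟨k, hk⟩ := hmem
    replace hk : (z ^ 3) ^ k = z := hk
    apply hi₀m
    rw [← hk]
    exact hz3c.zpow_left k
  subst hp3
  refine ⟨rfl, i₀, i₁, i₂, hi₀C, hi₁C, hi₂C, hi₀F, hi₁F, hi₂F, hs0, hs1, hs2, ha01, ?_, ?_, ?_, ?_, hi₀m⟩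
  · -- telescoping
    have hzz : τ (τ (τ x)) = x := by
      rw [hτ, hτ, hτ]
      have h3 : z * (z * (z * x * z⁻¹) * z⁻¹) * z⁻¹ = z ^ 3 * x * (z ^ 3)⁻¹ := by
        simp only [pow_succ, pow_zero, one_mul]
        group
      rw [h3, hzp]
      simp
    rw [hi₂, hi₁, hi₀]
    simp only [map_mul, map_inv]
    rw [hzz]
    group
  · rw [hi₁, hτ]
  · rw [hi₂, hτ]
  · rw [← hτ, ← hi₃, hi3]

end Csec

end Cfsg.Agent.Lib.KM
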