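import Cfsg.Agent.Lib.KM.Kill

set_option autoImplicit false
set_option linter.style.haveILetI false
set_option linter.unusedVariables false
set_option linter.unusedSectionVars false

/-!
# Klinger-Mason: structure of the critical subgroup of `T`
-/

namespace Cfsg.Agent.Lib.KM

open Subgroup Cfsg
open Cfsg.Agent.Lib.Basic.PCore
open scoped commutatorElement

variable {G : Type*} [Group G]

theorem mem_cent_iff {K F : Subgroup G} {y : G} :
    y ∈ K ⊓ centralizer (F : Set G) ↔ y ∈ K ∧ ∀ f ∈ F, Commute f y := by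
  constructor
  · rintro ⟨h1, h2⟩
    exact ⟨h1, fun f hf => mem_centralizer_iff.mp h2 f hf⟩
  · rintro ⟨h1, h2⟩
    exact ⟨h1, mem_centralizer_iff.mpr fun f hf => h2 f hf⟩

theorem comm_conj {g f y : G} (hgf : Commute g f) (hfy : Commute f y) : Commute f (g * y * g⁻¹) :=
  ((hgf.symm.mul_right hfy).mul_right hgf.symm.inv_right)

theorem act_cent {K F : Subgroup G} {g y : G} (hgK : ∀ y ∈ K, g * y * g⁻¹ ∈ K) (hgF : ∀ f ∈ F, Commute g f)
    (hy : y ∈ K ⊓ centralizer (F : Set G)) : g * y * g⁻¹ ∈ K ⊓ centralizer (F : Set G) := by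
  obtain ⟨h1, h2⟩ := mem_cent_iff.mp hy
  exact mem_cent_iff.mpr ⟨hgK y h1, fun f hf => comm_conj (hgF f hf) (h2 f hf)⟩

theorem act_comm {K : Subgroup G} {g a y : G} (hgK : ∀ y ∈ K, g * y * g⁻¹ ∈ K) (hga : Commute g a)
    (hy : y ∈ K ⊓ centralizer ({a} : Set G)) : g * y * g⁻¹ ∈ K ⊓ centralizer ({a} : Set G) :=
  ⟨hgK y hy.1, mem_centralizer_of_comm (comm_conj hga (comm_of_mem_centralizer hy.2).symm).symm⟩

theorem zpow_act [Finite G] {K : Subgroup G} {g : G} (hg : ∀ y ∈ K, g * y * g⁻¹ ∈ K) :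
    ∀ w ∈ zpowers g, ∀ y ∈ K, w * y * w⁻¹ ∈ K := by
  rintro _ ⟨k, rfl⟩ y hy
  have hord : IsOfFinOrder g := isOfFinOrder_of_finite g
  obtain ⟨m, hm⟩ := (hord.mem_powers_iff_mem_zpowers).mpr (⟨k, rfl⟩ : g ^ k ∈ zpowers g)
  replace hm : g ^ m = g ^ k := hm
  show g ^ k * y * (g ^ k)⁻¹ ∈ K
  rw [← hm]
  clear hm
  induction m with
  | zero => simpa using hy
  | succ m ih =>
    have : g ^ (m + 1) * y * (g ^ (m + 1))⁻¹ = g * (g ^ m * y * (g ^ m)⁻¹) * g⁻¹ := by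
      rw [pow_succ']; group
    rw [this]
    exact hg _ ih

/-- Conjugating `x` by `n` powers of `z`, when the difference is fixed. -/
theorem pow_of_diff {x w i : G} {n : ℕ} (hxn : x ^ n = 1) (hxi : Commute x i) (he : x * w * x⁻¹ = w * i) :
    i ^ n = 1 := by
  have hpow : ∀ m : ℕ, x ^ m * w * (x ^ m)⁻¹ = w * i ^ m := by
    intro m
    induction m with
    | zero => simp
    | succ m ih =>
      have h1 : x ^ (m + 1) * w * (x ^ (m + 1))⁻¹ = x * (x ^ m * w * (x ^ m)⁻¹) * x⁻¹ := by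
        rw [pow_succ']; group
      rw [h1, ih]
      have h2 : x * (w * i ^ m) * x⁻¹ = (x * w * x⁻¹) * (x * i ^ m * x⁻¹) := by group
      rw [h2, he, comm_iff_conj.mp (hxi.pow_right m), pow_succ']
      group
  have h3 := hpow n
  rw [hxn] at h3
  simp only [one_mul, inv_one, mul_one] at h3
  have h4 : w * 1 = w * i ^ n := by rw [mul_one]; exact h3
  exact (mul_left_cancel h4).symm

/-- Four-group generation, with conjugation into the wanted involution. -/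
theorem eig_kill1 [Finite G] {p : ℕ} [hp : Fact p.Prime] (hp2 : p ≠ 2) {u v a' : G} {K : Subgroup G} (hK : IsPGroup p K)
    (hu2 : u ^ 2 = 1) (hv2 : v ^ 2 = 1) (hu1 : u ≠ 1) (hv1 : v ≠ 1) (hvne : v ≠ u) (hvu : Commute v u)
    (ha'u : Commute a' u) (hconj : a' * v * a'⁻¹ = u * v)
    (huK : ∀ y ∈ K, u * y * u⁻¹ ∈ K) (hvK : ∀ y ∈ K, v * y * v⁻¹ ∈ K) (ha'K : ∀ y ∈ K, a'⁻¹ * y * a'⁻¹⁻¹ ∈ K)
    {y₀ : G} (hy₀ : y₀ ∈ K) (hm : ¬ Commute u y₀) :
    ∃ y ∈ K, Commute v y ∧ orderOf y = p ∧ u * y * u⁻¹ = y⁻¹ := by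
  haveI : Fact (Nat.Prime 2) := ⟨Nat.prime_two⟩
  have hKodd : ¬ 2 ∣ Nat.card K := not_dvd_of_isP hp2 hK
  obtain ⟨y, hyK, hy3, hyu⟩ := four_moved hu2 hv2 hvu.symm (Ne.symm hvne) hu1 hv1 hKodd huK hvK hy₀ hm
  have hex : ∃ y₁ ∈ K, Commute v y₁ ∧ ¬ Commute u y₁ := by
    rcases hy3 with h | h | h
    · exact absurd h hyu
    · exact ⟨y, hyK, h, hyu⟩
    · refine ⟨a'⁻¹ * y * a'⁻¹⁻¹, ha'K y hyK, ?_, ?_⟩
      · have h1 : v = a'⁻¹ * (u * v) * a'⁻¹⁻¹ := by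
          rw [← hconj]; group
        apply comm_iff_conj.mpr
        have h2 : v * (a'⁻¹ * y * a'⁻¹⁻¹) * v⁻¹ =
            a'⁻¹ * ((a' * v * a'⁻¹) * y * (a' * v * a'⁻¹)⁻¹) * a'⁻¹⁻¹ := by group
        rw [h2, hconj, comm_iff_conj.mp h]
      · intro h
        apply hyu
        apply comm_iff_conj.mpr
        have h1 := comm_iff_conj.mp h
        have h2 : y = a' * (a'⁻¹ * y * a'⁻¹⁻¹) * a'⁻¹ := by group
        rw [h2]
        have h3 : u * (a' * (a'⁻¹ * y * a'⁻¹⁻¹) * a'⁻¹) * u⁻¹ =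
            (u * a') * (a'⁻¹ * y * a'⁻¹⁻¹) * (u * a')⁻¹ := by group
        rw [h3, ← ha'u.eq]
        have h4 : (a' * u) * (a'⁻¹ * y * a'⁻¹⁻¹) * (a' * u)⁻¹ =
            a' * (u * (a'⁻¹ * y * a'⁻¹⁻¹) * u⁻¹) * a'⁻¹ := by group
        rw [h4, h1]
  obtain ⟨y₁, hy₁, hy₁v, hy₁u⟩ := hex
  have hvu' : Commute u v := hvu.symm
  obtain ⟨y', ⟨hy'K, hy'v⟩, hy'o, hy'i⟩ := exists_inverted (K := K ⊓ centralizer ({v} : Set G))
    (hK.to_le inf_le_left) hu2 (fun y hy => act_comm huK hvu' hy)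
    ⟨hy₁, mem_centralizer_of_comm hy₁v.symm⟩ hy₁u
  exact ⟨y', hy'K, (comm_of_mem_centralizer hy'v).symm, hy'o, hy'i⟩

/-- A nontrivial `p'`-element of `C(x)` moves `C_{O_p(C(x))}(B)`. -/
theorem moved_Oc [Finite G] {p : ℕ} [hp : Fact p.Prime] (hL : LocChar p G) {x t : G} {B : Subgroup G} (hx : orderOf x = p)
    (ht1 : t ≠ 1) (htco : (orderOf t).Coprime p) (htx : Commute t x) (hB : IsPGroup p B)
    (hBx : ∀ b ∈ B, Commute b x) (htB : ∀ b ∈ B, Commute t b) :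
    ∃ y ∈ Oc p x ⊓ centralizer (B : Set G), ¬ Commute t y := by
  have h1 : ∃ y ∈ Oc p x, ¬ Commute t y := by
    by_contra hcon
    push Not at hcon
    exact ht1 (eq_one_of_trivial_Oc hL hx htx htco hcon)
  obtain ⟨y₀, hy₀, hm⟩ := h1
  obtain ⟨y, hy, hyB, hty⟩ := moved_of_ab (Oc_isP p x) hB htco htB (fun y hy => Oc_conj htx hy)
    (fun b hb y hy => Oc_conj (hBx b hb) hy) hy₀ hm
  exact ⟨y, mem_cent_iff.mpr ⟨hy, hyB⟩, hty⟩

section Ksec

variable [Finite G] {p r : ℕ} [hp : Fact p.Prime] {u d : G} {X D : Subgroup G} (gd : GPD p r u d X D)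
include gd

theorem GPD.moved_D {t : G} {B : Subgroup G} (ht1 : t ≠ 1) (htco : (orderOf t).Coprime p) (htd : Commute t d)
    (hB : IsPGroup p B) (hBd : ∀ b ∈ B, Commute b d) (htB : ∀ b ∈ B, Commute t b) :
    ∃ y ∈ D ⊓ centralizer (B : Set G), ¬ Commute t y := by
  have h1 : ∃ y ∈ D, ¬ Commute t y := by
    by_contra hcon
    push Not at hcon
    exact ht1 (gd.hDfaith t htd htco hcon)
  obtain ⟨y₀, hy₀, hm⟩ := h1
  obtain ⟨y, hy, hyB, hty⟩ := moved_of_ab ((Oc_isP p d).to_le gd.hDP) hB htco htB (gd.hDinv t htd)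
    (fun b hb y hy => gd.hDinv b (hBd b hb) y hy) hy₀ hm
  exact ⟨y, mem_cent_iff.mpr ⟨hy, hyB⟩, hty⟩

theorem GPD.u_ne : u ≠ 1 := by
  intro h
  have := gd.hu
  rw [h, orderOf_one] at this
  omega

theorem GPD.u_mem_TT : u ∈ TT u d := by
  haveI : Fact (Nat.Prime 2) := ⟨Nat.prime_two⟩
  exact mem_TT.mpr ⟨self_mem_Oc gd.hu, gd.d_u.symm⟩

/-- **Kill-1** -/
theorem GPD.kill1 {F : Subgroup G} (hFX : F ≤ X) (hFc : Nat.card F = p ^ (r - 1)) (hdF : d ∈ F) {v a' : G}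
    (hv : orderOf v = 2) (hvT : v ∈ TT u d) (hvF : ∀ f ∈ F, Commute v f) (hvne : v ≠ u)
    (ha'T : a' ∈ TT u d) (ha'F : ∀ f ∈ F, Commute a' f) (hconj : a' * v * a'⁻¹ = u * v) : False := by
  haveI : Fact (Nat.Prime 2) := ⟨Nat.prime_two⟩
  have hFe : IsElementaryAbelian p F := isEA_mono gd.hX hFX
  have hFp : IsPGroup p F := (Cfsg.Agent.Lib.Coprime.GenerationE.isPGroup_of_isElementaryAbelian gd.hX).to_le hFX
  have hv2 : v ^ 2 = 1 := by
    have := pow_orderOf_eq_one v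
    rwa [hv] at this
  have hv1 : v ≠ 1 := by
    intro h
    rw [h, orderOf_one] at hv
    omega
  obtain ⟨hvJ, hvd⟩ := mem_TT.mp hvT
  obtain ⟨ha'J, ha'd⟩ := mem_TT.mp ha'T
  have hvu : Commute v u := Oc_comm hvJ
  have ha'u : Commute a' u := Oc_comm ha'J
  have hud := gd.d_u.symm
  have huF : ∀ f ∈ F, Commute u f := fun f hf => (gd.hXu f (hFX hf)).symm
  have huco := gd.ne_one_of_two gd.hu
  -- `lam`
  obtain ⟨y₀, hy₀, hy₀m⟩ := gd.moved_D gd.u_ne huco hud hFp (fun b hb => gd.X_d (hFX hb)) huF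
  have hDp : IsPGroup p D := (Oc_isP p d).to_le gd.hDP
  obtain ⟨lam, hlam, hlamv, hlamo, hlami⟩ := eig_kill1 gd.hp2 (K := D ⊓ centralizer (F : Set G))
    (hDp.to_le inf_le_left) gd.hu2 hv2 gd.u_ne hv1 hvne hvu ha'u hconj
    (fun y hy => act_cent (gd.hDinv u hud) huF hy)
    (fun y hy => act_cent (gd.hDinv v hvd) hvF hy)
    (fun y hy => act_cent (gd.hDinv _ ha'd.inv_left) (fun f hf => (ha'F f hf).inv_left) hy) hy₀ hy₀m
  obtain ⟨hlamD, hlamF⟩ := mem_cent_iff.mp hlam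
  refine gd.kill hFe hFc hdF hv hvF gd.u_mem_TT huF hlamD (fun b hb => (hlamF b hb).symm) hlamv.symm hlamo hlami ?_
  intro x hxF hxd
  have hx1 : x ≠ 1 := fun h => hxd (h ▸ one_mem _)
  have hxo : orderOf x = p := orderOf_eq_of_pow hx1 (hFe.2 x hxF)
  have hFx : ∀ b ∈ F, Commute b x := fun b hb => isEA_comm hFe hb hxF
  obtain ⟨y₁, hy₁, hy₁m⟩ := moved_Oc gd.locp hxo gd.u_ne huco (huF x hxF) hFp hFx huF
  obtain ⟨y, hy, hyv, hyo, hyi⟩ := eig_kill1 gd.hp2 (K := Oc p x ⊓ centralizer (F : Set G))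
    ((Oc_isP p x).to_le inf_le_left) gd.hu2 hv2 gd.u_ne hv1 hvne hvu ha'u hconj
    (fun y hy => act_cent (fun w hw => Oc_conj (huF x hxF) hw) huF hy)
    (fun y hy => act_cent (fun w hw => Oc_conj (hvF x hxF) hw) hvF hy)
    (fun y hy => act_cent (fun w hw => Oc_conj (ha'F x hxF).inv_left hw) (fun f hf => (ha'F f hf).inv_left) hy) hy₁ hy₁m
  obtain ⟨hyO, hyF⟩ := mem_cent_iff.mp hy
  exact ⟨y, hyO, fun b hb => (hyF b hb).symm, hyv.symm, hyo, hyi⟩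

/-- **Root lemma** -/
theorem GPD.root {R : Subgroup G} (hRT : R ≤ TT u d) (hXR : ∀ x ∈ X, ∀ y ∈ R, x * y * x⁻¹ ∈ R) {z w₀ : G} (hz : z ∈ X)
    (hw₀ : w₀ ∈ R) (hm : ¬ Commute z w₀) :
    ∃ F : Subgroup G, F ≤ X ∧ Nat.card F = p ^ (r - 1) ∧ d ∈ F ∧ z ∉ F ∧ F ⊔ zpowers z = X ∧
      ∃ w ∈ R, (∀ f ∈ F, Commute f w) ∧ ¬ Commute z w := by
  classical
  haveI : Fact (Nat.Prime 2) := ⟨Nat.prime_two⟩
  have hz1 : z ≠ 1 := by
    intro h
    exact hm (h ▸ Commute.one_left w₀)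
  have hzp : z ^ p = 1 := gd.hX.2 z hz
  let S : Set (Subgroup G) := {F | F ≤ X ∧ d ∈ F ∧ z ∉ F ∧ ∃ w ∈ R, (∀ f ∈ F, Commute f w) ∧ ¬ Commute z w}
  have hS0 : zpowers d ∈ S := by
    have hw₀d : Commute w₀ d := (mem_TT.mp (hRT hw₀)).2
    have hcomm : ∀ f ∈ zpowers d, Commute f w₀ := by
      rintro _ ⟨k, rfl⟩
      exact hw₀d.symm.zpow_left k
    refine ⟨zpowers_le.mpr gd.hdX, mem_zpowers d, fun h => hm (hcomm z h), w₀, hw₀, hcomm, hm⟩
  obtain ⟨F, hF⟩ := S.toFinite.exists_maximal ⟨_, hS0⟩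
  obtain ⟨⟨hFX, hdF, hzF, w, hwR, hwF, hzw⟩, hmax⟩ := hF
  have hRp : IsPGroup 2 R := (Oc_isP 2 u).to_le (hRT.trans inf_le_left)
  have hFz : ∀ a ∈ F, Commute a z := fun a ha => isEA_comm gd.hX (hFX ha) hz
  have htop : F ⊔ zpowers z = X := by
    apply le_antisymm (sup_le hFX (zpowers_le.mpr hz))
    by_contra hle
    obtain ⟨f, hfX, hfn⟩ := SetLike.not_le_iff_exists.mp hle
    have hfz : f ∉ zpowers z := fun h => hfn (mem_sup_right h)
    obtain ⟨hA, hAc⟩ := rank_two_of_indep hzp hz1 (gd.hX.2 f hfX) (isEA_comm gd.hX hz hfX) hfz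
    have hAX : (zpowers z ⊔ zpowers f : Subgroup G) ≤ X := sup_le (zpowers_le.mpr hz) (zpowers_le.mpr hfX)
    have hQ : ¬ p ∣ Nat.card (R ⊓ centralizer (F : Set G) : Subgroup G) :=
      not_dvd_of_isP gd.two_ne (hRp.to_le inf_le_left)
    obtain ⟨b, hb, hb1, y, hy, hby, hzy⟩ := exists_moved_point hA hAc hQ
      (fun a ha y hy => act_cent (hXR a (hAX ha)) (fun f hf => isEA_comm gd.hX (hAX ha) (hFX hf)) hy)
      (mem_cent_iff.mpr ⟨hwR, hwF⟩) hzw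
    obtain ⟨hyR, hyF⟩ := mem_cent_iff.mp hy
    have hbX : b ∈ X := hAX hb
    have hc : ∀ a ∈ F, Commute a b := fun a ha => isEA_comm gd.hX (hFX ha) hbX
    have hF'y : ∀ t ∈ (F ⊔ zpowers b : Subgroup G), Commute t y := by
      intro t ht
      obtain ⟨a, ha, k, rfl⟩ := (mem_sup_zpowers_iff hc).mp ht
      exact (hyF a ha).mul_left (hby.zpow_left k)
    have hF'S : (F ⊔ zpowers b : Subgroup G) ∈ S :=
      ⟨sup_le hFX (zpowers_le.mpr hbX), mem_sup_left hdF, fun h => hzy (hF'y z h), y, hyR, hF'y, hzy⟩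
    have hle2 := hmax hF'S le_sup_left
    have hbF : b ∈ F := hle2 (mem_sup_right (mem_zpowers b))
    have hc2 : ∀ t ∈ zpowers z, Commute t f := by
      rintro _ ⟨k, rfl⟩
      exact (isEA_comm gd.hX hz hfX).zpow_left k
    obtain ⟨a, ha, k, hbe⟩ := (mem_sup_zpowers_iff hc2).mp hb
    by_cases hfk : f ^ k = 1
    · rw [hfk, mul_one] at hbe
      have : z ∈ zpowers b := by
        apply mem_zpowers_of_zpow hzp _ hb1
        rw [hbe]; exact ha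
      exact hzF ((zpowers_le.mpr hbF) this)
    · have hfm : f ∈ zpowers (f ^ k) := mem_zpowers_of_zpow (gd.hX.2 f hfX) ⟨k, rfl⟩ hfk
      have hm2 : f ^ k ∈ F ⊔ zpowers z := by
        have : f ^ k = a⁻¹ * b := by rw [hbe]; group
        rw [this]
        exact mul_mem (mem_sup_right (inv_mem ha)) (mem_sup_left hbF)
      exact hfn ((zpowers_le.mpr hm2) hfm)
  have hcard := card_sup_zpowers' hFz hzp hzF
  rw [htop, gd.hXc, ← gd.pow_pred] at hcard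
  have hFc : Nat.card F = p ^ (r - 1) := (Nat.eq_of_mul_eq_mul_right hp.out.pos hcard).symm
  exact ⟨F, hFX, hFc, hdF, hzF, htop, w, hwR, hwF, hzw⟩

end Ksec

/-- The critical subgroup of `T` is in place. -/
structure GPC (p r : ℕ) (u d : G) (X D C : Subgroup G) : Prop extends GPD p r u d X D where
  hCT : C ≤ TT u d
  hCX : ∀ x ∈ X, ∀ y ∈ C, x * y * x⁻¹ ∈ C
  hCcomm : ∀ a ∈ C, ∀ b ∈ C, a * b * a⁻¹ * b⁻¹ ∈ C ∧ ∀ c ∈ C, Commute (a * b * a⁻¹ * b⁻¹) c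
  hCsq : ∀ a ∈ C, a ^ 2 ∈ C ∧ ∀ c ∈ C, Commute (a ^ 2) c
  hCmove : ∀ x ∈ X, (∃ w ∈ TT u d, ¬ Commute x w) → ∃ w ∈ C, ¬ Commute x w

section Csec

variable [Finite G] {p r : ℕ} [hp : Fact p.Prime] {u d : G} {X D C : Subgroup G} (gc : GPC p r u d X D C)
include gc

theorem GPC.X_fix_uT {x w : G} (hx : x ∈ X) (hw : w ∈ C) : x * w * x⁻¹ ∈ C := gc.hCX x hx w hw

theorem GPC.C_u {w : G} (hw : w ∈ C) : Commute w u := Oc_comm (gc.hCT hw).1

theorem GPC.C_d {w : G} (hw : w ∈ C) : Commute w d := comm_of_mem_centralizer (gc.hCT hw).2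

/-- Rank-2 for a conjugate pair. -/
theorem GPC.rank2_z {F : Subgroup G} (hFX : F ≤ X) (hFc : Nat.card F = p ^ (r - 1)) {y z : G} (hy : y ∈ C) (hy2 : y ^ 2 = 1)
    (hyF : ∀ f ∈ F, Commute f y) (hz : z ∈ X) (hzy : ¬ Commute z y) (hc : Commute y (z * y * z⁻¹)) : False := by
  have hzu := gc.hXu z hz
  have hzd := gc.X_d hz
  set β := z * y * z⁻¹ with hβ
  have hβ2 : β ^ 2 = 1 := by rw [hβ, conj_pow, hy2]; simp
  have hy1 : y ≠ 1 := by
    intro h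
    exact hzy (h ▸ Commute.one_right z)
  have hβ1 : β ≠ 1 := by
    intro h
    apply hy1
    have h2 : z * y * z⁻¹ = 1 := h
    have h3 : z * y = z := by rwa [mul_inv_eq_one] at h2
    exact mul_eq_left.mp h3
  have hne : y ≠ β := fun h => hzy (comm_iff_conj.mpr h.symm)
  have hyu := gc.C_u hy
  have hyd := gc.C_d hy
  have hzy' : z * y * z⁻¹ = β := rfl
  have hβu : Commute β u := (comm_conj hzu hyu.symm).symm
  have hβd : Commute β d := (comm_conj hzd hyd.symm).symm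
  have hβF : ∀ f ∈ F, Commute β f := fun f hf =>
    (comm_conj (isEA_comm gc.hX hz (hFX hf)) (hyF f hf)).symm
  refine gc.rank2 hFX hFc hy2 hβ2 hc hne hy1 hβ1 (fun f hf => (hyF f hf).symm) hβF hyu hβu hyd hβd ?_ ?_ ?_
  · intro h
    rw [h] at hzy
    exact hzy hzu
  · intro h
    apply hzy
    apply comm_iff_conj.mpr
    have h2 : y = z⁻¹ * u * z⁻¹⁻¹ := by
      rw [← h, hβ]; group
    have h3 := comm_iff_conj.mp hzu.inv_left
    rw [h3] at h2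
    rw [h2]
    exact comm_iff_conj.mp hzu
  · intro h
    apply hzy
    -- `z` squared fixes `y`
    have hyy : y * y = 1 := by rw [← sq, hy2]
    have hβe : β = y * u := by
      have : β = y⁻¹ * u := by
        rw [← h]; group
      rw [this]
      have h5 : y⁻¹ = y := by rw [inv_eq_iff_mul_eq_one, hyy]
      rw [h5]
    have h2 : z * β * z⁻¹ = y := by
      rw [hβe]
      have h3 : z * (y * u) * z⁻¹ = (z * y * z⁻¹) * (z * u * z⁻¹) := by group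
      rw [h3, comm_iff_conj.mp hzu, hzy', hβe]
      rw [mul_assoc, ← sq, gc.hu2, mul_one]
    have h3 : z ^ 2 ∈ centralizer ({y} : Set G) := by
      apply mem_centralizer_of_comm
      apply comm_iff_conj.mpr
      have h4 : z ^ 2 * y * (z ^ 2)⁻¹ = z * (z * y * z⁻¹) * z⁻¹ := by
        rw [sq]; group
      rw [h4, hzy', h2]
    have h4 := mem_of_sq_mem (n := 1) gc.hp2 (y := z) (by simpa using gc.hX.2 z hz) h3
    exact comm_of_mem_centralizer h4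

/-- The only involution in `Z(C)` is `u`. -/
theorem GPC.omega {y : G} (hy : y ∈ C) (hy2 : y ^ 2 = 1) (hyc : ∀ c ∈ C, Commute c y) : y = 1 ∨ y = u := by
  by_contra hcon
  push Not at hcon
  obtain ⟨hy1, hyu⟩ := hcon
  let R : Subgroup G :=
    { carrier := {w | w ∈ C ∧ w ^ 2 = 1 ∧ ∀ c ∈ C, Commute c w}
      one_mem' := ⟨one_mem _, one_pow 2, fun c _ => Commute.one_right c⟩
      mul_mem' := by
        rintro a b ⟨ha1, ha2, ha3⟩ ⟨hb1, hb2, hb3⟩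
        refine ⟨mul_mem ha1 hb1, ?_, fun c hc => (ha3 c hc).mul_right (hb3 c hc)⟩
        rw [(hb3 a ha1).mul_pow, ha2, hb2, one_mul]
      inv_mem' := by
        rintro a ⟨ha1, ha2, ha3⟩
        refine ⟨inv_mem ha1, by rw [inv_pow, ha2, inv_one], fun c hc => (ha3 c hc).inv_right⟩ }
  have hRmem : ∀ w, w ∈ R ↔ w ∈ C ∧ w ^ 2 = 1 ∧ ∀ c ∈ C, Commute c w := fun w => Iff.rfl
  have hRC : R ≤ C := fun w hw => hw.1
  have hXR : ∀ x ∈ X, ∀ w ∈ R, x * w * x⁻¹ ∈ R := by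
    rintro x hx w ⟨hw1, hw2, hw3⟩
    refine ⟨gc.hCX x hx w hw1, by rw [conj_pow, hw2]; simp, fun c hc => ?_⟩
    have hx' : x⁻¹ ∈ X := inv_mem hx
    have h1 := hw3 _ (gc.hCX x⁻¹ hx' c hc)
    have h2 : x * (x⁻¹ * c * x⁻¹⁻¹) * x⁻¹ = c := by group
    have h3 := (comm_iff_conj.mp h1)
    apply comm_iff_conj.mpr
    have h4 : c * (x * w * x⁻¹) * c⁻¹ = x * ((x⁻¹ * c * x⁻¹⁻¹) * w * (x⁻¹ * c * x⁻¹⁻¹)⁻¹) * x⁻¹ := by group
    rw [h4, h3]
  by_cases hall : ∀ z ∈ X, ∀ w ∈ R, Commute z w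
  · exact gc.F8 (orderOf_eq_prime hy2 hy1) hyu (gc.C_u hy) (gc.C_d hy) (fun x hx => hall x hx y ⟨hy, hy2, hyc⟩)
  · push Not at hall
    obtain ⟨z, hz, w₀, hw₀, hm⟩ := hall
    obtain ⟨F, hFX, hFc, -, -, -, w, hw, hwF, hzw⟩ := gc.root (hRC.trans gc.hCT) hXR hz hw₀ hm
    obtain ⟨hw1, hw2, hw3⟩ := hw
    exact gc.rank2_z hFX hFc hw1 hw2 hwF hz hzw (hw3 _ (gc.hCX z hz w hw1)).symm

end Csec

end Cfsg.Agent.Lib.KM
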