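import Cfsg.Agent.Lib.KM.Basic

set_option autoImplicit false
set_option linter.style.haveILetI false
set_option linter.unusedVariables false
set_option linter.unusedSectionVars false

/-!
# Klinger-Mason: generic tools
-/

namespace Cfsg.Agent.Lib.KM

open Subgroup Cfsg
open Cfsg.Agent.Lib.Basic.PCore
open Cfsg.Agent.Lib.Coprime.GenerationE
open scoped commutatorElement

variable {G : Type*} [Group G]

theorem mem_sup_zpowers_iff {A : Subgroup G} {y w : G} (hy : ∀ a ∈ A, Commute a y) :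
    w ∈ A ⊔ zpowers y ↔ ∃ a ∈ A, ∃ k : ℤ, w = a * y ^ k := by
  constructor
  · intro hw
    let S : Subgroup G :=
      { carrier := {w | ∃ a ∈ A, ∃ k : ℤ, w = a * y ^ k}
        one_mem' := ⟨1, one_mem _, 0, by simp⟩
        mul_mem' := by
          rintro _ _ ⟨a, ha, k, rfl⟩ ⟨b, hb, l, rfl⟩
          refine ⟨a * b, mul_mem ha hb, k + l, ?_⟩
          have : y ^ k * b = b * y ^ k := ((hy b hb).zpow_right k).eq.symm
          rw [zpow_add]
          calc a * y ^ k * (b * y ^ l) = a * (y ^ k * b) * y ^ l := by group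
            _ = a * (b * y ^ k) * y ^ l := by rw [this]
            _ = a * b * (y ^ k * y ^ l) := by group
        inv_mem' := by
          rintro _ ⟨a, ha, k, rfl⟩
          refine ⟨a⁻¹, inv_mem ha, -k, ?_⟩
          have : y ^ (-k) * a⁻¹ = a⁻¹ * y ^ (-k) := ((hy a⁻¹ (inv_mem ha)).zpow_right (-k)).eq.symm
          rw [mul_inv_rev, ← zpow_neg]
          exact this }
    have hle : A ⊔ zpowers y ≤ S := by
      refine sup_le ?_ ?_
      · intro a ha
        exact ⟨a, ha, 0, by simp⟩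
      · rw [zpowers_le]
        exact ⟨1, one_mem _, 1, by simp⟩
    exact hle hw
  · rintro ⟨a, ha, k, rfl⟩
    exact mul_mem (mem_sup_left ha) (mem_sup_right (zpow_mem (mem_zpowers y) k))

theorem isEA_mono {p : ℕ} {A B : Subgroup G} (hA : IsElementaryAbelian p A) (hB : B ≤ A) :
    IsElementaryAbelian p B := by
  refine ⟨⟨⟨fun a b => ?_⟩⟩, fun a ha => hA.2 a (hB ha)⟩
  have := hA.1.is_comm.comm ⟨a, hB a.2⟩ ⟨b, hB b.2⟩
  apply Subtype.ext
  simpa using congrArg Subtype.val this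

theorem isEA_comm {p : ℕ} {A : Subgroup G} (hA : IsElementaryAbelian p A) {a b : G} (ha : a ∈ A)
    (hb : b ∈ A) : Commute a b :=
  congrArg Subtype.val (hA.1.is_comm.comm ⟨a, ha⟩ ⟨b, hb⟩)

/-- Extending an elementary abelian subgroup by a commuting element of order dividing `p`. -/
theorem isEA_sup {p : ℕ} {A : Subgroup G} (hA : IsElementaryAbelian p A) {y : G}
    (hy : ∀ a ∈ A, Commute a y) (hyp : y ^ p = 1) : IsElementaryAbelian p (A ⊔ zpowers y) := by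
  refine ⟨Cfsg.Agent.Lib.PGroup.NormalRank.isMulCommutative_sup_zpowers hA.1 ?_, ?_⟩
  · rw [mem_centralizer_iff]
    intro a ha
    exact (hy a ha).eq
  · intro w hw
    obtain ⟨a, ha, k, rfl⟩ := (mem_sup_zpowers_iff hy).mp hw
    rw [((hy a ha).zpow_right k).mul_pow, hA.2 a ha, one_mul, ← zpow_natCast, ← zpow_mul, mul_comm,
      zpow_mul, zpow_natCast, hyp, one_zpow]

theorem orderOf_eq_of_pow {p : ℕ} [hp : Fact p.Prime] {y : G} (h1 : y ≠ 1) (h2 : y ^ p = 1) : orderOf y = p :=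
  orderOf_eq_prime h2 h1

theorem card_sup_zpowers' [Finite G] {p : ℕ} [hp : Fact p.Prime] {A : Subgroup G} {y : G}
    (hy : ∀ a ∈ A, Commute a y) (hyp : y ^ p = 1) (hyA : y ∉ A) :
    Nat.card (A ⊔ zpowers y : Subgroup G) = Nat.card A * p := by
  classical
  have hy1 : y ≠ 1 := fun h => hyA (h ▸ one_mem A)
  have hord : orderOf y = p := orderOf_eq_of_pow hy1 hyp
  have hcz : Nat.card (zpowers y) = p := by rw [Nat.card_zpowers, hord]
  have hdisj : ∀ t ∈ zpowers y, t ∈ A → t = 1 := by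
    intro t ht htA
    by_contra hne
    have : y ∈ zpowers t := by
      have hpr : Nat.Prime (Nat.card (zpowers y)) := by rw [hcz]; exact hp.out
      haveI : Fact (Nat.Prime (Nat.card (zpowers y))) := ⟨hpr⟩
      have : zpowers t = zpowers y := by
        have hle : zpowers t ≤ zpowers y := by rwa [zpowers_le]
        rcases (Subgroup.eq_bot_or_eq_top_of_prime_card
          ((zpowers t).subgroupOf (zpowers y))) with h | h
        · exfalso
          apply hne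
          have : (⟨t, ht⟩ : zpowers y) ∈ (zpowers t).subgroupOf (zpowers y) := by
            rw [mem_subgroupOf]; exact mem_zpowers t
          rw [h, mem_bot] at this
          exact congrArg Subtype.val this
        · apply le_antisymm hle
          rw [subgroupOf_eq_top] at h
          exact h
      rw [this]; exact mem_zpowers y
    exact hyA ((zpowers_le.mpr htA) this)
  let f : A × zpowers y → ↥(A ⊔ zpowers y : Subgroup G) := fun q =>
    ⟨(q.1 : G) * q.2, mul_mem (mem_sup_left q.1.2) (mem_sup_right q.2.2)⟩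
  have hinj : Function.Injective f := by
    rintro ⟨⟨a, ha⟩, ⟨t, ht⟩⟩ ⟨⟨b, hb⟩, ⟨s, hs⟩⟩ hab
    have h1 : a * t = b * s := congrArg Subtype.val hab
    have h2 : b⁻¹ * a = s * t⁻¹ := by
      calc b⁻¹ * a = b⁻¹ * (a * t) * t⁻¹ := by group
        _ = b⁻¹ * (b * s) * t⁻¹ := by rw [h1]
        _ = s * t⁻¹ := by group
    have h3 : s * t⁻¹ = 1 := hdisj _ (mul_mem hs (inv_mem ht)) (h2 ▸ mul_mem (inv_mem hb) ha)
    have h4 : s = t := by rwa [mul_inv_eq_one] at h3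
    subst h4
    have h5 : a = b := mul_right_cancel h1
    subst h5
    rfl
  have hsurj : Function.Surjective f := by
    rintro ⟨w, hw⟩
    obtain ⟨a, ha, k, rfl⟩ := (mem_sup_zpowers_iff hy).mp hw
    exact ⟨(⟨a, ha⟩, ⟨y ^ k, zpow_mem (mem_zpowers y) k⟩), rfl⟩
  rw [← Nat.card_congr (Equiv.ofBijective f ⟨hinj, hsurj⟩), Nat.card_prod, hcz]

theorem le_normalizer_of [Finite G] {A K : Subgroup G} (h : ∀ a ∈ A, ∀ y ∈ K, a * y * a⁻¹ ∈ K) :
    A ≤ normalizer (K : Set G) := by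
  intro a ha
  rw [mem_normalizer_iff]
  intro y
  constructor
  · exact h a ha y
  · intro hy
    have := h a⁻¹ (inv_mem ha) _ hy
    simpa [mul_assoc] using this

theorem not_dvd_of_isP [Finite G] {p q : ℕ} [hp : Fact p.Prime] [hq : Fact q.Prime] (hpq : p ≠ q) {K : Subgroup G}
    (hK : IsPGroup p K) : ¬ q ∣ Nat.card K := by
  obtain ⟨n, hn⟩ := IsPGroup.iff_card.mp hK
  rw [hn]
  intro h
  have := hq.out.dvd_of_dvd_pow h
  exact hpq ((Nat.prime_dvd_prime_iff_eq hq.out hp.out).mp this).symm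

theorem coprime_of_isP [Finite G] {p : ℕ} [hp : Fact p.Prime] {x : G} {n : ℕ} {q : ℕ} [hq : Fact q.Prime]
    (hpq : q ≠ p) (hx : x ^ (q ^ n) = 1) : (orderOf x).Coprime p := by
  have h1 : orderOf x ∣ q ^ n := orderOf_dvd_of_pow_eq_one hx
  have h2 : (q ^ n).Coprime p :=
    Nat.Coprime.pow_left n ((Nat.coprime_primes hq.out hp.out).mpr hpq)
  exact Nat.Coprime.coprime_dvd_left h1 h2

/-- Coprime generation, element form. -/
theorem exists_moved [Finite G] {q : ℕ} [Fact q.Prime] {A K : Subgroup G} (hA : IsElementaryAbelian q A)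
    (hK : ¬ q ∣ Nat.card K) (hAK : ∀ a ∈ A, ∀ y ∈ K, a * y * a⁻¹ ∈ K) {g y₀ : G} (hy₀ : y₀ ∈ K)
    (hg : ¬ Commute g y₀) :
    ∃ B : Subgroup G, B ≤ A ∧ B.relIndex A ≤ q ∧ ∃ y ∈ K, (∀ b ∈ B, Commute b y) ∧ ¬ Commute g y := by
  by_contra hcon
  push Not at hcon
  apply hg
  have hle := le_iSup_relIndex_le A K hA hK (le_normalizer_of hAK)
  have hle2 : (⨆ B : {B : Subgroup G // B ≤ A ∧ B.relIndex A ≤ q},
      K ⊓ centralizer ((B : Subgroup G) : Set G)) ≤ centralizer ({g} : Set G) := by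
    refine iSup_le ?_
    rintro ⟨B, hBA, hBi⟩ y ⟨hyK, hyB⟩
    have hcomm : ∀ b ∈ B, Commute b y := by
      intro b hb
      exact (mem_centralizer_iff.mp hyB b hb)
    exact mem_centralizer_of_comm (hcon B hBA hBi y hyK hcomm).symm
  exact (comm_of_mem_centralizer (hle2 (hle hy₀))).symm

/-- Coprime generation by centralizers of points, for rank at least two. -/
theorem exists_moved_point [Finite G] {q : ℕ} [hq : Fact q.Prime] {A K : Subgroup G} (hA : IsElementaryAbelian q A)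
    (hc : q ^ 2 ≤ Nat.card A)
    (hK : ¬ q ∣ Nat.card K) (hAK : ∀ a ∈ A, ∀ y ∈ K, a * y * a⁻¹ ∈ K) {g y₀ : G} (hy₀ : y₀ ∈ K)
    (hg : ¬ Commute g y₀) :
    ∃ b ∈ A, b ≠ 1 ∧ ∃ y ∈ K, Commute b y ∧ ¬ Commute g y := by
  obtain ⟨B, hBA, hBi, y, hyK, hyB, hgy⟩ := exists_moved hA hK hAK hy₀ hg
  have hcard : Nat.card A = Nat.card B * B.relIndex A :=
    Cfsg.Agent.Lib.PGroup.Critical.card_eq_mul_relIndex hBA
  have hB1 : B ≠ ⊥ := by
    rintro rfl
    have h1 : Nat.card (⊥ : Subgroup G) = 1 := by simp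
    rw [h1, one_mul] at hcard
    have hqq := hq.out.one_lt
    have : q ^ 2 ≤ q := by
      calc q ^ 2 ≤ Nat.card A := hc
        _ = (⊥ : Subgroup G).relIndex A := hcard
        _ ≤ q := hBi
    nlinarith
  obtain ⟨⟨b, hb⟩, hb1⟩ := (Subgroup.ne_bot_iff_exists_ne_one).mp hB1
  have hb1' : b ≠ 1 := fun h => hb1 (Subtype.ext h)
  exact ⟨b, hBA hb, hb1', y, hyK, hyB b hb, hgy⟩

theorem zpow_invol {τ : G} (h : τ ^ 2 = 1) (k : ℤ) : τ ^ k = 1 ∨ τ ^ k = τ := by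
  rcases Int.even_or_odd' k with ⟨m, rfl | rfl⟩
  · left
    rw [zpow_mul, zpow_ofNat, h, one_zpow]
  · right
    rw [zpow_add, zpow_mul, zpow_ofNat, h, one_zpow, one_mul, zpow_one]

/-- Generation for two commuting involutions (a four-group). -/
theorem four_moved [Finite G] {τ₁ τ₂ : G} (h1 : τ₁ ^ 2 = 1) (h2 : τ₂ ^ 2 = 1) (h12 : Commute τ₁ τ₂)
    (hne : τ₁ ≠ τ₂) (h1n : τ₁ ≠ 1) (h2n : τ₂ ≠ 1) {K : Subgroup G} (hK : ¬ 2 ∣ Nat.card K)
    (h1K : ∀ y ∈ K, τ₁ * y * τ₁⁻¹ ∈ K) (h2K : ∀ y ∈ K, τ₂ * y * τ₂⁻¹ ∈ K)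
    {g y₀ : G} (hy₀ : y₀ ∈ K) (hg : ¬ Commute g y₀) :
    ∃ y ∈ K, (Commute τ₁ y ∨ Commute τ₂ y ∨ Commute (τ₁ * τ₂) y) ∧ ¬ Commute g y := by
  haveI : Fact (Nat.Prime 2) := ⟨Nat.prime_two⟩
  have hA₀ : IsElementaryAbelian 2 (zpowers τ₁) := by
    refine ⟨inferInstance, ?_⟩
    rintro _ ⟨k, rfl⟩
    show (τ₁ ^ k) ^ 2 = 1
    rw [← zpow_natCast, ← zpow_mul, mul_comm, zpow_mul, zpow_natCast, h1, one_zpow]
  have hc₀ : ∀ a ∈ zpowers τ₁, Commute a τ₂ := by
    rintro _ ⟨k, rfl⟩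
    exact h12.zpow_left k
  have hτ₂ : τ₂ ∉ zpowers τ₁ := by
    rintro ⟨k, hk⟩
    replace hk : τ₁ ^ k = τ₂ := hk
    rcases zpow_invol h1 k with h | h
    · exact h2n (hk.symm.trans h)
    · exact hne (h.symm.trans hk)
  have hA := isEA_sup hA₀ hc₀ h2
  have hcard : 2 ^ 2 ≤ Nat.card (zpowers τ₁ ⊔ zpowers τ₂ : Subgroup G) := by
    rw [card_sup_zpowers' (p := 2) hc₀ h2 hτ₂, Nat.card_zpowers, orderOf_eq_of_pow h1n h1]
    norm_num
  have hAK : ∀ a ∈ (zpowers τ₁ ⊔ zpowers τ₂ : Subgroup G), ∀ y ∈ K, a * y * a⁻¹ ∈ K := by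
    intro a ha y hy
    obtain ⟨b, hb, k, rfl⟩ := (mem_sup_zpowers_iff hc₀).mp ha
    obtain ⟨l, rfl⟩ := hb
    replace hy : y ∈ K := hy
    have hz : ∀ (τ : G), τ ^ 2 = 1 → (∀ y ∈ K, τ * y * τ⁻¹ ∈ K) → ∀ (k : ℤ), ∀ y ∈ K, τ ^ k * y * (τ ^ k)⁻¹ ∈ K := by
      intro τ hτ hτK k y hy
      rcases zpow_invol hτ k with h | h
      · rw [h]; simpa using hy
      · rw [h]; exact hτK y hy
    have := hz τ₁ h1 h1K l _ (hz τ₂ h2 h2K k y hy)
    show τ₁ ^ l * τ₂ ^ k * y * (τ₁ ^ l * τ₂ ^ k)⁻¹ ∈ K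
    convert this using 1
    group
  obtain ⟨b, hb, hb1, y, hyK, hby, hgy⟩ := exists_moved_point hA hcard hK hAK hy₀ hg
  refine ⟨y, hyK, ?_, hgy⟩
  obtain ⟨a, ha, k, rfl⟩ := (mem_sup_zpowers_iff hc₀).mp hb
  obtain ⟨l, rfl⟩ := ha
  replace hby : Commute (τ₁ ^ l * τ₂ ^ k) y := hby
  replace hb1 : τ₁ ^ l * τ₂ ^ k ≠ 1 := hb1
  rcases zpow_invol h1 l with h | h <;> rcases zpow_invol h2 k with h' | h' <;> rw [h, h'] at hby hb1
  · simp at hb1
  · right; left; simpa using hby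
  · left; simpa using hby
  · right; right; exact hby

/-- Thompson's `A × B` lemma, element form. -/
theorem moved_of_ab [Finite G] {p : ℕ} [hp : Fact p.Prime] {K B : Subgroup G} (hK : IsPGroup p K) (hB : IsPGroup p B)
    {t : G} (ht : (orderOf t).Coprime p) (htB : ∀ b ∈ B, Commute t b) (htK : ∀ y ∈ K, t * y * t⁻¹ ∈ K)
    (hBK : ∀ b ∈ B, ∀ y ∈ K, b * y * b⁻¹ ∈ K) {y₀ : G} (hy₀ : y₀ ∈ K) (hm : ¬ Commute t y₀) :
    ∃ y ∈ K, (∀ b ∈ B, Commute b y) ∧ ¬ Commute t y := by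
  by_contra hcon
  push Not at hcon
  apply hm
  have hAB : zpowers t ≤ centralizer (B : Set G) := by
    rw [zpowers_le, mem_centralizer_iff]
    intro b hb
    exact (htB b hb).symm
  have hAK : zpowers t ≤ normalizer (K : Set G) := by
    apply le_normalizer_of
    rintro _ ⟨k, rfl⟩ y hy
    have hord : IsOfFinOrder t := isOfFinOrder_of_finite t
    obtain ⟨m, hm⟩ := (hord.mem_powers_iff_mem_zpowers).mpr (⟨k, rfl⟩ : t ^ k ∈ zpowers t)
    replace hm : t ^ m = t ^ k := hm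
    show t ^ k * y * (t ^ k)⁻¹ ∈ K
    rw [← hm]
    clear hm
    induction m with
    | zero => simpa using hy
    | succ m ih =>
      have : t ^ (m + 1) * y * (t ^ (m + 1))⁻¹ = t * (t ^ m * y * (t ^ m)⁻¹) * t⁻¹ := by
        rw [pow_succ']; group
      rw [this]
      exact htK _ ih
  have hBK' : B ≤ normalizer (K : Set G) := le_normalizer_of hBK
  have hA : (Nat.card (zpowers t)).Coprime p := by rwa [Nat.card_zpowers]
  have hle : K ⊓ centralizer (B : Set G) ≤ centralizer (zpowers t : Set G) := by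
    rintro y ⟨hyK, hyB⟩
    have hty : Commute t y := hcon y hyK (fun b hb => mem_centralizer_iff.mp hyB b hb)
    rw [mem_centralizer_iff]
    rintro _ ⟨k, rfl⟩
    exact (hty.zpow_left k).eq
  have := Cfsg.Agent.Lib.Solvable.AxB.ab_lemma hK hB hA hAB hAK hBK' hle hy₀
  exact (mem_centralizer_iff.mp this t (mem_zpowers t))

/-- Fixed coset: a `p`-group acting on a `p`-group fixes a nontrivial coset. -/
theorem exists_fixed_coset [Finite G] {p : ℕ} [hp : Fact p.Prime] {Y Z X : Subgroup G} (hY : IsPGroup p Y) (hX : IsPGroup p X)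
    (hZY : Z ≤ Y) (hXY : ∀ x ∈ X, ∀ y ∈ Y, x * y * x⁻¹ ∈ Y) (hXZ : ∀ x ∈ X, ∀ z ∈ Z, x * z * x⁻¹ ∈ Z)
    (hYZ : ∀ y ∈ Y, ∀ z ∈ Z, y * z * y⁻¹ ∈ Z) {y₀ : G} (hy₀ : y₀ ∈ Y) (hy₀Z : y₀ ∉ Z) :
    ∃ y ∈ Y, y ∉ Z ∧ ∀ x ∈ X, x * y * x⁻¹ * y⁻¹ ∈ Z := by
  let R : Subgroup G := Y ⊔ X
  have hYn : Y ≤ normalizer (Y : Set G) := le_normalizer_of (fun a ha y hy => mul_mem (mul_mem ha hy) (inv_mem ha))
  have hXn : X ≤ normalizer (Y : Set G) := le_normalizer_of hXY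
  have hRY : R ≤ normalizer (Y : Set G) := sup_le hYn hXn
  have hRZ : R ≤ normalizer (Z : Set G) := sup_le (le_normalizer_of hYZ) (le_normalizer_of hXZ)
  have hRp : IsPGroup p R := by
    apply IsPGroup.to_sup_of_normal_left' hY hX
    exact hXn
  have hN : (Y.subgroupOf R).Normal := by
    rw [normal_subgroupOf_iff_le_normalizer (le_sup_left : Y ≤ R)]
    exact hRY
  have hM : (Z.subgroupOf R).Normal := by
    rw [normal_subgroupOf_iff_le_normalizer (hZY.trans (le_sup_left : Y ≤ R))]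
    exact hRZ
  have hnot : ¬ Y.subgroupOf R ≤ Z.subgroupOf R := by
    intro hle
    have hy₀R : y₀ ∈ R := mem_sup_left hy₀
    have := hle (show (⟨y₀, hy₀R⟩ : R) ∈ Y.subgroupOf R from by rw [mem_subgroupOf]; exact hy₀)
    rw [mem_subgroupOf] at this
    exact hy₀Z this
  obtain ⟨x, hxN, hxM, -, hxc⟩ := Cfsg.Agent.Lib.PGroup.Critical.exists_mem_central_mod hRp _ _ hnot
  rw [mem_subgroupOf] at hxN hxM
  refine ⟨x, hxN, hxM, fun a ha => ?_⟩
  have h1 := hxc ⟨a, mem_sup_right ha⟩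
  rw [mem_subgroupOf, commutatorElement_def] at h1
  have h2 : ((x : R) : G) * a * (x : G)⁻¹ * a⁻¹ ∈ Z := by simpa using h1
  -- conjugate: `[a, x] = [x, a]⁻¹`
  have h3 : a * (x : G) * a⁻¹ * (x : G)⁻¹ = ((x : G) * a * (x : G)⁻¹ * a⁻¹)⁻¹ := by group
  rw [h3]
  exact inv_mem h2

/-- An element of order `p` inverted by an involution, from a moved element. -/
theorem exists_inverted [Finite G] {p : ℕ} [hp : Fact p.Prime] {K : Subgroup G} (hK : IsPGroup p K) {τ y : G}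
    (hτ : τ ^ 2 = 1) (hτK : ∀ y ∈ K, τ * y * τ⁻¹ ∈ K) (hy : y ∈ K) (hm : ¬ Commute τ y) :
    ∃ y' ∈ K, orderOf y' = p ∧ τ * y' * τ⁻¹ = y'⁻¹ := by
  have hτi : τ⁻¹ = τ := by
    rw [inv_eq_iff_mul_eq_one, ← sq, hτ]
  set w := y⁻¹ * (τ * y * τ⁻¹) with hw
  have hwK : w ∈ K := mul_mem (inv_mem hy) (hτK y hy)
  have hw1 : w ≠ 1 := by
    intro h
    apply hm
    rw [hw, inv_mul_eq_one] at h
    exact comm_iff_conj.mpr h.symm
  have hwi : τ * w * τ⁻¹ = w⁻¹ := by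
    rw [hw]
    have h1 : τ * (y⁻¹ * (τ * y * τ⁻¹)) * τ⁻¹ = (τ * y⁻¹ * τ⁻¹) * (τ * τ * y * τ⁻¹ * τ⁻¹) := by group
    rw [h1, ← sq τ, hτ]
    rw [show (τ⁻¹ : G) = τ from hτi]
    have h2 : τ * y * τ * τ = τ * y := by
      rw [mul_assoc, ← sq, hτ, mul_one]
    simp only [one_mul, mul_inv_rev, inv_inv, mul_assoc]
    have h3 : y * (τ * τ) = y := by rw [← sq, hτ, mul_one]
    rw [h3]
    have h4 : (τ⁻¹ : G) = τ := hτi
    rw [h4]
  obtain ⟨n, hn⟩ := exists_pow_of_isP hK hwK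
  obtain ⟨m, hm'⟩ : ∃ m, orderOf w = p ^ (m + 1) := by
    have hdvd : orderOf w ∣ p ^ n := orderOf_dvd_of_pow_eq_one hn
    obtain ⟨m, hmn, hm⟩ := (Nat.dvd_prime_pow hp.out).mp hdvd
    cases m with
    | zero =>
      exfalso
      apply hw1
      simpa using orderOf_eq_one_iff.mp (by simpa using hm)
    | succ m => exact ⟨m, hm⟩
  refine ⟨w ^ (p ^ m), pow_mem hwK _, ?_, ?_⟩
  · have : orderOf (w ^ (p ^ m)) = orderOf w / Nat.gcd (orderOf w) (p ^ m) := orderOf_pow' w (by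
      exact pow_ne_zero _ hp.out.ne_zero)
    rw [this, hm']
    have hg : Nat.gcd (p ^ (m + 1)) (p ^ m) = p ^ m := Nat.gcd_eq_right (pow_dvd_pow p (Nat.le_succ m))
    rw [hg, pow_succ]
    exact Nat.mul_div_cancel_left _ (pow_pos hp.out.pos m)
  · rw [← conj_pow, hwi, inv_pow]

/-- Fixed-point-free involution modulo a central subgroup of prime order. -/
theorem inv_mod [Finite G] {p : ℕ} [hp : Fact p.Prime] (hp2 : p ≠ 2) {D : Subgroup G} {d τ : G}
    (hdord : orderOf d = p) (hdD : d ∈ D)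
    (hcent : ∀ y ∈ D, Commute y d) (hτ : τ ^ 2 = 1) (hτd : Commute τ d) (hτD : ∀ y ∈ D, τ * y * τ⁻¹ ∈ D)
    (hfix : ∀ y ∈ D, Commute τ y → y ∈ zpowers d) :
    ∀ y ∈ D, ∃ k : ℤ, τ * y * τ⁻¹ = y⁻¹ * d ^ k := by
  classical
  have hτi : τ⁻¹ = τ := by
    rw [inv_eq_iff_mul_eq_one, ← sq, hτ]
  have hττ : ∀ w : G, τ * (τ * w * τ⁻¹) * τ⁻¹ = w := by
    intro w
    have : τ * (τ * w * τ⁻¹) * τ⁻¹ = (τ ^ 2) * w * (τ⁻¹ ^ 2) := by
      rw [sq, sq]; group
    rw [this, inv_pow, hτ]; simp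
  -- the quotient
  let dD : ↥D := ⟨d, hdD⟩
  let Z : Subgroup ↥D := zpowers dD
  have hZn : Z.Normal := by
    constructor
    rintro _ ⟨k, rfl⟩ g
    refine ⟨k, ?_⟩
    have hc : Commute g dD := Subtype.ext (hcent g g.2)
    have : g * (dD ^ k) * g⁻¹ = dD ^ k := by
      rw [comm_iff_conj.mp (hc.zpow_right k)]
    simp only [this]
  let c : ↥D →* ↥D :=
    { toFun := fun y => ⟨τ * y * τ⁻¹, hτD y y.2⟩
      map_one' := by apply Subtype.ext; simp
      map_mul' := by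
        intro a b
        apply Subtype.ext
        simp only [MulMemClass.coe_mul]
        group }
  have hcZ : Z ≤ Z.comap c := by
    rintro _ ⟨k, rfl⟩
    rw [mem_comap]
    refine ⟨k, ?_⟩
    apply Subtype.ext
    show ((dD ^ k : ↥D) : G) = τ * ((dD ^ k : ↥D) : G) * τ⁻¹
    have : (((dD ^ k : ↥D)) : G) = d ^ k := by simp [dD]
    rw [this, comm_iff_conj.mp (hτd.zpow_right k)]
  let φ : (↥D ⧸ Z) →* (↥D ⧸ Z) := QuotientGroup.map Z Z c hcZ
  have hφ : ∀ y : ↥D, φ (y : ↥D ⧸ Z) = ((c y : ↥D) : ↥D ⧸ Z) := fun y => rfl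
  have hodd : ∀ k : ℤ, (d ^ k) ^ 2 = 1 → d ^ k = 1 := by
    intro k hk
    have h1 : orderOf (d ^ k) ∣ 2 := orderOf_dvd_of_pow_eq_one hk
    have h2 : orderOf (d ^ k) ∣ orderOf d := orderOf_dvd_of_pow_eq_one (by
      rw [← zpow_natCast, ← zpow_mul, mul_comm, zpow_mul, zpow_natCast, pow_orderOf_eq_one, one_zpow])
    rw [hdord] at h2
    have h3 : Nat.Coprime 2 p := (Nat.coprime_primes Nat.prime_two hp.out).mpr (Ne.symm hp2)
    have := Nat.eq_one_of_dvd_coprimes h3 h1 h2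
    exact orderOf_eq_one_iff.mp this
  have hfpf : MonoidHom.FixedPointFree φ := by
    intro q hq
    induction q using QuotientGroup.induction_on with
    | H y =>
    have h1 : φ (y : ↥D ⧸ Z) = (y : ↥D ⧸ Z) := hq
    rw [hφ, QuotientGroup.eq] at h1
    obtain ⟨k, hk⟩ := h1
    replace hk : dD ^ k = (c y)⁻¹ * y := hk
    have hk' : d ^ k = (τ * (y : G) * τ⁻¹)⁻¹ * y := by
      have := congrArg Subtype.val hk
      simpa [dD, c] using this
    have hk2 : (y : G) = τ * y * τ⁻¹ * d ^ k := by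
      rw [hk']; group
    have hk3 : τ * (y : G) * τ⁻¹ = y * d ^ k := by
      have h5 : τ * (y : G) * τ⁻¹ = τ * (τ * (y : G) * τ⁻¹ * d ^ k) * τ⁻¹ := by rw [← hk2]
      have h6 : τ * (τ * (y : G) * τ⁻¹ * d ^ k) * τ⁻¹ = τ * (τ * y * τ⁻¹) * τ⁻¹ * (τ * d ^ k * τ⁻¹) := by group
      rw [h6, hττ, comm_iff_conj.mp (hτd.zpow_right k)] at h5
      exact h5
    have hk4 : (d ^ k) ^ 2 = 1 := by
      have h7 := hk2
      rw [hk3] at h7
      have h8 : (y : G) = y * (d ^ k * d ^ k) := by rw [← mul_assoc]; exact h7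
      have h9 : d ^ k * d ^ k = 1 := by
        have := mul_left_cancel (a := (y : G)) (b := 1) (c := d ^ k * d ^ k) (by rw [mul_one]; exact h8)
        exact this.symm
      rw [sq, h9]
    have hk5 := hodd k hk4
    rw [hk5, mul_one] at hk3
    have hmem := hfix y y.2 (comm_iff_conj.mpr hk3)
    rw [QuotientGroup.eq_one_iff]
    obtain ⟨l, hl⟩ := hmem
    replace hl : d ^ l = y := hl
    refine ⟨l, ?_⟩
    apply Subtype.ext
    simpa [dD] using hl
  have hinvol : Function.Involutive φ := by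
    intro q
    induction q using QuotientGroup.induction_on with
    | H y =>
    rw [hφ, hφ]
    congr 1
    apply Subtype.ext
    exact hττ y
  have hinv := hfpf.coe_eq_inv_of_involutive hinvol
  intro y hy
  have h1 : φ ((⟨y, hy⟩ : ↥D) : ↥D ⧸ Z) = ((⟨y, hy⟩ : ↥D) : ↥D ⧸ Z)⁻¹ := congrFun hinv _
  rw [hφ, ← QuotientGroup.mk_inv, QuotientGroup.eq] at h1
  obtain ⟨k, hk⟩ := h1
  replace hk : dD ^ k = (c ⟨y, hy⟩)⁻¹ * (⟨y, hy⟩ : ↥D)⁻¹ := hk
  have hk' : d ^ k = (τ * y * τ⁻¹)⁻¹ * y⁻¹ := by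
    have := congrArg Subtype.val hk
    simpa [dD, c] using this
  refine ⟨-k, ?_⟩
  have hyd : Commute y (d ^ (-k)) := (hcent y hy).zpow_right (-k)
  rw [zpow_neg, hk']
  group

end Cfsg.Agent.Lib.KM
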